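import Groth.Agent.Sga3.H818.Lift
import Groth.Agent.Sga3.H767.Popescu
import Groth.Agent.Sga3.H774.HomRep
import Groth.Agent.Sga3.H816.HomTorOf
import Groth.Agent.Pi1A.HensPairFP

/-!
# Assembly of S4138
-/

set_option autoImplicit false
universe u
open CategoryTheory MonoidalCategory CartesianMonoidalCategory MonObj AlgebraicGeometry Limits

namespace Groth.Agent.Sga3.H818.Glue

/-- Algebras of finite type over the integers are G-rings. -/
theorem isGRing_of_finiteType_int (B : Type u) [CommRing B] [hB : Algebra.FiniteType ℤ B] : CAlg.IsGRing B := by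
  let g : ULift.{u} ℤ →+* B := (algebraMap ℤ B).comp (ULift.ringEquiv (R := ℤ)).toRingHom
  have hg : g.FiniteType := RingHom.FiniteType.comp (RingHom.finiteType_algebraMap.mpr hB)
    (RingHom.FiniteType.of_surjective _ (ULift.ringEquiv (R := ℤ)).surjective)
  let _ : Algebra (ULift.{u} ℤ) B := g.toAlgebra
  have : Algebra.FiniteType (ULift.{u} ℤ) B := hg
  exact Groth.Agent.S0599.result (ULift.{u} ℤ) Groth.Agent.Pi1A.HensPair.isGRing_int B

/-- Effectivity, in the form of helper767. -/
theorem eff : Groth.Agent.Sga3.H767.Popescu.Eff.{u} := by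
  intro C _ _ _ _ G _ _ _ _ _ haff _ r y hy
  exact Groth.Agent.Sga3.H818.Lift.exists_lift_complete G haff r y hy

/-- The split case over a base of finite type over the integers. -/
theorem splitCase : Groth.Agent.Sga3.H816.HomTorAsm.SplitCase.{u} := by
  intro B _ _ G _ _ _ _ _ haff hU r
  have hN : IsNoetherianRing B := Algebra.FiniteType.isNoetherianRing ℤ B
  refine Groth.Agent.Sga3.H816.RepDef.Rep.of_exists ?_
  refine Groth.Agent.Sga3.H774.HomRep.exists_representsHom (B := CommRingCat.of B) r G hU ?_
  intro K _ x y hy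
  exact Groth.Agent.Sga3.H767.Popescu.exists_smooth_lift eff (isGRing_of_finiteType_int B) G haff hU r x y hy

end Groth.Agent.Sga3.H818.Glue
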