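import Mathlib.RingTheory.MvPowerSeries.Equiv
import Mathlib.RingTheory.MvPowerSeries.NoZeroDivisors
import Mathlib.RingTheory.MvPolynomial.Ideal
import Mathlib.RingTheory.Filtration
import Mathlib.RingTheory.Ideal.MinimalPrime.Noetherian
import Mathlib.RingTheory.Localization.Integer
import Mathlib.LinearAlgebra.Dual.Lemmas

/-!
# Rationality of formal power series

`v` is a power series over a reduced noetherian ring `A` which becomes rational (quotient of polynomials) over a
domain `R'` containing `A/p`, for every minimal prime `p`. Then `s * v` is a polynomial for a polynomial `s` with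
constant coefficient `1`: `exists_mul_eq_of_minimalPrimes`.
-/

set_option autoImplicit false

namespace Groth.Agent.Sga3.H818.Alg

open MvPowerSeries nonZeroDivisors

section krull

variable {A : Type*} [CommRing A] {ι : Type*} [Finite ι]

/-- The Krull intersection step. -/
lemma exists_mul_eq_of_nonZeroDivisor [IsNoetherianRing A] (v : MvPowerSeries ι A) (a b : MvPolynomial ι A)
    (h : (b : MvPowerSeries ι A) * v = a) (hb : (b : MvPowerSeries ι A) ∈ (MvPowerSeries ι A)⁰) :
    ∃ s c : MvPolynomial ι A, MvPolynomial.constantCoeff s = 1 ∧ (s : MvPowerSeries ι A) * v = c := by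
  let I := MvPolynomial.idealOfVars ι A
  have h1 : (Ideal.Quotient.mk (Ideal.span {b}) a) ∈
      (⨅ i : ℕ, I ^ i • ⊤ : Submodule (MvPolynomial ι A) (MvPolynomial ι A ⧸ Ideal.span {b})) := by
    rw [Submodule.mem_iInf]
    intro n
    have h2 : a - b * v.truncTotal n ∈ I ^ n := by
      refine (MvPolynomial.mem_pow_idealOfVars_iff' ..).mpr (fun x hx ↦ ?_)
      rw [MvPolynomial.coeff_sub, sub_eq_zero, ← MvPolynomial.coeff_coe a, ← h, ← MvPolynomial.coeff_coe,
        MvPolynomial.coe_mul]
      classical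
      rw [coeff_mul, coeff_mul]
      refine Finset.sum_congr rfl fun y hy => ?_
      congr 1
      rw [MvPolynomial.coeff_coe, coeff_truncTotal]
      refine lt_of_le_of_lt ?_ hx
      apply Finsupp.degree_mono
      rw [Finset.mem_antidiagonal] at hy
      rw [← hy]
      exact le_add_self
    have h3 : (Ideal.Quotient.mk (Ideal.span {b}) a) =
        (a - b * v.truncTotal n) • (Ideal.Quotient.mk (Ideal.span {b}) 1) := by
      have h4 : (a - b * v.truncTotal n) • (Ideal.Quotient.mk (Ideal.span {b}) 1) =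
        Ideal.Quotient.mk (Ideal.span {b}) ((a - b * v.truncTotal n) * 1) := rfl
      rw [h4, mul_one, Ideal.Quotient.mk_eq_mk_iff_sub_mem, sub_sub_cancel]
      exact Ideal.mul_mem_right _ _ (Ideal.subset_span rfl)
    rw [h3]
    exact Submodule.smul_mem_smul h2 trivial
  obtain ⟨r, hr⟩ := (I.mem_iInf_smul_pow_eq_bot_iff _).mp h1
  have h4 : a - r.1 * a ∈ Ideal.span {b} := by
    rw [← Ideal.Quotient.mk_eq_mk_iff_sub_mem, eq_comm]
    exact hr
  obtain ⟨c, hc⟩ := Ideal.mem_span_singleton.mp h4
  refine ⟨1 - r.1, c, ?_, ?_⟩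
  · rw [map_sub, map_one]
    have h5 : MvPolynomial.constantCoeff r.1 = 0 := by
      have h6 : r.1 ∈ I ^ 1 := by rw [pow_one]; exact r.2
      exact (MvPolynomial.mem_pow_idealOfVars_iff' _ _).mp h6 0 (by simp)
    rw [h5, sub_zero]
  · have h7 : (b : MvPowerSeries ι A) * (((1 - r.1 : MvPolynomial ι A) : MvPowerSeries ι A) * v - c) = 0 := by
      have h8 : (((a - r.1 * a : MvPolynomial ι A)) : MvPowerSeries ι A) = ((b * c : MvPolynomial ι A) : _) := by
        rw [hc]
      have h9 : (a - r.1 * a : MvPolynomial ι A) = (1 - r.1) * a := by ring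
      rw [h9, MvPolynomial.coe_mul, MvPolynomial.coe_mul, ← h] at h8
      linear_combination h8
    exact sub_eq_zero.mp (hb.1 _ h7)

end krull

section functional

variable {A : Type*} [CommRing A] {ι : Type*}

/-- Descent of rationality along an extension of domains. -/
lemma exists_of_injective [IsDomain A] {R' : Type*} [CommRing R'] [IsDomain R'] (τ : A →+* R')
    (hτ : Function.Injective τ) (w : MvPowerSeries ι A) (b' a' : MvPolynomial ι R') (hb' : b' ≠ 0)
    (h : (b' : MvPowerSeries ι R') * MvPowerSeries.map τ w = a') :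
    ∃ b a : MvPolynomial ι A, b ≠ 0 ∧ (b : MvPowerSeries ι A) * w = a := by
  classical
  let K := FractionRing A
  let L := FractionRing R'
  let σ : K →+* L := IsFractionRing.lift (g := (algebraMap R' L).comp τ)
    ((IsFractionRing.injective R' L).comp hτ)
  have hσ : ∀ x : A, σ (algebraMap A K x) = algebraMap R' L (τ x) := fun x => by
    exact IsFractionRing.lift_algebraMap _ _
  let _ : Algebra K L := σ.toAlgebra
  obtain ⟨e₀, he₀⟩ : ∃ e₀, b'.coeff e₀ ≠ 0 := by
    by_contra! hn
    exact hb' (MvPolynomial.ext _ _ (fun m => by rw [hn m, MvPolynomial.coeff_zero]))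
  have hβ : algebraMap R' L (b'.coeff e₀) ≠ 0 := by
    rw [Ne, map_eq_zero_iff _ (IsFractionRing.injective R' L)]
    exact he₀
  obtain ⟨l, hl⟩ : ∃ l : Module.Dual K L, l (algebraMap R' L (b'.coeff e₀)) ≠ 0 := by
    by_contra! hn
    exact hβ ((Module.forall_dual_apply_eq_zero_iff K _).mp hn)
  obtain ⟨⟨δ, hδ⟩, hδ'⟩ := IsLocalization.exist_integer_multiples_of_finset A⁰
    (b'.support.image (fun e => l (algebraMap R' L (b'.coeff e))))
  have hg : ∀ e, ∃ g : A, algebraMap A K g = algebraMap A K δ * l (algebraMap R' L (b'.coeff e)) := by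
    intro e
    by_cases he : e ∈ b'.support
    · obtain ⟨g, hg⟩ := hδ' _ (Finset.mem_image_of_mem _ he)
      refine ⟨g, hg.trans ?_⟩
      rw [Algebra.smul_def]
    · refine ⟨0, ?_⟩
      rw [MvPolynomial.notMem_support_iff.mp he]
      simp
  choose g hg using hg
  have hgs : ∀ e, e ∉ b'.support → g e = 0 := by
    intro e he
    have := hg e
    rw [MvPolynomial.notMem_support_iff.mp he] at this
    simpa using this
  let b : MvPolynomial ι A := truncFinset A b'.support g
  have hbc : ∀ e, coeff e (b : MvPowerSeries ι A) = g e := by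
    intro e
    rw [MvPolynomial.coeff_coe]
    by_cases he : e ∈ b'.support
    · exact coeff_truncFinset_of_mem (R := A) g he
    · rw [hgs e he]
      exact coeff_truncFinset_eq_zero (R := A) g he
  have key : ∀ d, algebraMap A K (coeff d ((b : MvPowerSeries ι A) * w)) =
      algebraMap A K δ * l (algebraMap R' L (a'.coeff d)) := by
    intro d
    rw [← MvPolynomial.coeff_coe a', ← h, coeff_mul, coeff_mul, map_sum, map_sum, map_sum, Finset.mul_sum]
    refine Finset.sum_congr rfl fun x _ => ?_
    rw [map_mul, map_mul, hbc, hg, coeff_map, MvPolynomial.coeff_coe, ← hσ, mul_comm (algebraMap R' L _),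
      mul_assoc]
    have : σ (algebraMap A K (coeff x.2 w)) * algebraMap R' L (b'.coeff x.1) =
        (algebraMap A K (coeff x.2 w)) • algebraMap R' L (b'.coeff x.1) := by
      rw [Algebra.smul_def]
      rfl
    rw [this, map_smul, smul_eq_mul, mul_comm (algebraMap A K (coeff x.2 w))]
  refine ⟨b, truncFinset A a'.support ((b : MvPowerSeries ι A) * w), ?_, ?_⟩
  · intro h0
    have h1 := hbc e₀
    rw [h0] at h1
    have h2 : g e₀ = 0 := by rw [← h1]; simp
    have h3 := hg e₀
    rw [h2, map_zero, eq_comm, mul_eq_zero] at h3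
    rcases h3 with h3 | h3
    · rw [map_eq_zero_iff _ (IsFractionRing.injective A K)] at h3
      exact nonZeroDivisors.ne_zero hδ h3
    · exact hl h3
  · ext d
    rw [MvPolynomial.coeff_coe]
    by_cases hd : d ∈ a'.support
    · rw [coeff_truncFinset_of_mem _ hd]
    · rw [coeff_truncFinset_eq_zero _ hd]
      apply IsFractionRing.injective A K
      rw [key, MvPolynomial.notMem_support_iff.mp hd]
      simp

end functional

section main

variable {A : Type*} [CommRing A] {ι : Type*}

lemma map_coe {B : Type*} [CommRing B] (f : A →+* B) (p : MvPolynomial ι A) :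
    MvPowerSeries.map f (p : MvPowerSeries ι A) = (MvPolynomial.map f p : MvPowerSeries ι B) := by
  ext d
  simp [MvPolynomial.coeff_map]

/-- **Rationality of a formal power series.** -/
theorem exists_mul_eq_of_minimalPrimes [Finite ι] [IsNoetherianRing A] [IsReduced A] (v : MvPowerSeries ι A)
    (H : ∀ p ∈ minimalPrimes A, ∃ (R' : Type*) (_ : CommRing R') (_ : IsDomain R') (τ : A →+* R'),
      RingHom.ker τ = p ∧ ∃ b' a' : MvPolynomial ι R', b' ≠ 0 ∧
        (b' : MvPowerSeries ι R') * MvPowerSeries.map τ v = a') :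
    ∃ s c : MvPolynomial ι A, MvPolynomial.constantCoeff s = 1 ∧ (s : MvPowerSeries ι A) * v = c := by
  classical
  have hfin : (minimalPrimes A).Finite := minimalPrimes.finite_of_isNoetherianRing A
  let F := hfin.toFinset
  have hF : ∀ p, p ∈ F ↔ p ∈ minimalPrimes A := fun p => hfin.mem_toFinset
  have hzero : ∀ x : A, (∀ p ∈ minimalPrimes A, x ∈ p) → x = 0 := by
    intro x hx
    have h1 : x ∈ nilradical A := by
      rw [nilradical, ← Ideal.sInf_minimalPrimes, Submodule.mem_sInf]
      exact hx
    rwa [nilradical_eq_zero, Ideal.zero_eq_bot, Ideal.mem_bot] at h1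
  -- rational modulo each minimal prime
  have h1 : ∀ p ∈ minimalPrimes A, ∃ b a : MvPolynomial ι A, MvPolynomial.map (Ideal.Quotient.mk p) b ≠ 0 ∧
      ∀ d, coeff d ((b : MvPowerSeries ι A) * v - (a : MvPowerSeries ι A)) ∈ p := by
    intro p hp
    have hpp : p.IsPrime := hp.1.1
    obtain ⟨R', _, _, τ, hτ, b', a', hb', hv⟩ := H p hp
    let τ' : A ⧸ p →+* R' := Ideal.Quotient.lift p τ (fun x hx => by rwa [← hτ, RingHom.mem_ker] at hx)
    have hτ' : Function.Injective τ' := by
      rw [injective_iff_map_eq_zero]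
      intro x hx
      obtain ⟨x, rfl⟩ := Ideal.Quotient.mk_surjective x
      rw [Ideal.Quotient.eq_zero_iff_mem, ← hτ]
      exact hx
    have hcomp : MvPowerSeries.map τ v = MvPowerSeries.map τ' (MvPowerSeries.map (Ideal.Quotient.mk p) v) := by
      ext d
      simp [τ']
    rw [hcomp] at hv
    obtain ⟨b, a, hb, h⟩ := exists_of_injective τ' hτ' _ b' a' hb' hv
    obtain ⟨b₁, rfl⟩ := MvPolynomial.map_surjective _ Ideal.Quotient.mk_surjective b
    obtain ⟨a₁, rfl⟩ := MvPolynomial.map_surjective _ Ideal.Quotient.mk_surjective a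
    refine ⟨b₁, a₁, hb, fun d => ?_⟩
    rw [← Ideal.Quotient.eq_zero_iff_mem, ← coeff_map, map_sub, map_mul, map_coe, map_coe, h, sub_self]
    simp
  choose! b a hb ha using h1
  have h2 : ∀ p ∈ minimalPrimes A, ∃ c : A, c ∉ p ∧ ∀ q ∈ minimalPrimes A, q ≠ p → c ∈ q := by
    intro p hp
    have hpp : p.IsPrime := hp.1.1
    by_contra! hn
    have h3 : (F.erase p).inf id ≤ p := by
      intro x hx
      by_contra hxp
      obtain ⟨q, hq, hqp, hxq⟩ := hn x hxp
      apply hxq
      have : (F.erase p).inf id ≤ q := Finset.inf_le (f := id) (Finset.mem_erase.mpr ⟨hqp, (hF q).mpr hq⟩)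
      exact this hx
    obtain ⟨q, hq, hqp⟩ := (Ideal.IsPrime.inf_le' hpp).mp h3
    rw [Finset.mem_erase, hF] at hq
    exact hq.1 (le_antisymm hqp (hp.2 hq.2.1 hqp))
  choose! c hc hc' using h2
  let B : MvPolynomial ι A := ∑ p ∈ F, MvPolynomial.C (c p) * b p
  let A₁ : MvPolynomial ι A := ∑ p ∈ F, MvPolynomial.C (c p) * a p
  have hBA : (B : MvPowerSeries ι A) * v = A₁ := by
    have h3 : (B : MvPowerSeries ι A) * v - (A₁ : MvPowerSeries ι A) =
        ∑ p ∈ F, MvPowerSeries.C (c p) * ((b p : MvPowerSeries ι A) * v - (a p : MvPowerSeries ι A)) := by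
      have h4 : (B : MvPowerSeries ι A) = ∑ p ∈ F, MvPowerSeries.C (c p) * (b p : MvPowerSeries ι A) := by
        change MvPolynomial.coeToMvPowerSeries.ringHom B = _
        rw [map_sum]
        simp
      have h5 : (A₁ : MvPowerSeries ι A) = ∑ p ∈ F, MvPowerSeries.C (c p) * (a p : MvPowerSeries ι A) := by
        change MvPolynomial.coeToMvPowerSeries.ringHom A₁ = _
        rw [map_sum]
        simp
      rw [h4, h5, Finset.sum_mul, ← Finset.sum_sub_distrib]
      exact Finset.sum_congr rfl fun p _ => by ring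
    rw [← sub_eq_zero, h3]
    ext d
    rw [map_sum]
    rw [map_zero]
    refine hzero _ (fun q hq => Ideal.sum_mem _ fun p hp => ?_)
    rw [coeff_C_mul]
    rw [hF] at hp
    by_cases hqp : q = p
    · subst hqp
      exact Ideal.mul_mem_left _ _ (ha q hq d)
    · exact Ideal.mul_mem_right _ _ (hc' p hp q hq hqp)
  refine exists_mul_eq_of_nonZeroDivisor v A₁ B hBA ?_
  -- `B` is a nonzerodivisor
  have h6 : ∀ q ∈ minimalPrimes A, MvPowerSeries.map (Ideal.Quotient.mk q) (B : MvPowerSeries ι A) ≠ 0 := by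
    intro q hq
    have hqq : q.IsPrime := hq.1.1
    rw [map_coe]
    have h7 : MvPolynomial.map (Ideal.Quotient.mk q) B =
        MvPolynomial.C (Ideal.Quotient.mk q (c q)) * MvPolynomial.map (Ideal.Quotient.mk q) (b q) := by
      rw [map_sum, Finset.sum_eq_single q]
      · rw [map_mul, MvPolynomial.map_C]
      · intro p hp hpq
        rw [hF] at hp
        rw [map_mul, MvPolynomial.map_C, Ideal.Quotient.eq_zero_iff_mem.mpr (hc' p hp q hq (Ne.symm hpq)),
          MvPolynomial.C_0, zero_mul]
      · intro hn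
        exact (hn ((hF q).mpr hq)).elim
    rw [h7, Ne, MvPolynomial.coe_eq_zero_iff, mul_eq_zero, not_or]
    refine ⟨?_, hb q hq⟩
    rw [← MvPolynomial.C_0, (MvPolynomial.C_injective _ _).eq_iff, Ideal.Quotient.eq_zero_iff_mem]
    exact hc q hq
  rw [mem_nonZeroDivisors_iff_right]
  intro x hx
  ext d
  rw [map_zero]
  refine hzero _ (fun q hq => ?_)
  have hqq : q.IsPrime := hq.1.1
  have h8 := congrArg (MvPowerSeries.map (Ideal.Quotient.mk q)) hx
  rw [map_mul, map_zero, mul_eq_zero] at h8
  have h9 := h8.resolve_right (h6 q hq)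
  rw [← Ideal.Quotient.eq_zero_iff_mem, ← coeff_map, h9]
  simp

end main

end Groth.Agent.Sga3.H818.Alg
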