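import Groth.Agent.Ega43.DvrDomination
import Groth.Agent.S0549
import Mathlib.RingTheory.PowerSeries.Inverse
import Mathlib.RingTheory.AdicCompletion.Completeness

/-!
# Complete discrete valuation rings dominating a noetherian local domain
-/

set_option autoImplicit false
universe u
open IsLocalRing

namespace Groth.Agent.Sga3.H818.CDvr

/-- A discrete valuation ring is dominated by a complete one. -/
theorem exists_complete (V : Type u) [CommRing V] [IsDomain V] [IsDiscreteValuationRing V] :
    ∃ (O : Type u) (_ : CommRing O) (_ : IsDomain O) (_ : IsDiscreteValuationRing O)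
      (_ : IsAdicComplete (maximalIdeal O) O) (τ : V →+* O), Function.Injective τ ∧ IsLocalHom τ := by
  obtain ⟨h1, h2⟩ := (Groth.Agent.S0549.result V).mp ⟨inferInstance, inferInstance⟩
  have hc : IsAdicComplete (maximalIdeal (AdicCompletion (maximalIdeal V) V)) (AdicCompletion (maximalIdeal V) V) := by
    rw [AdicCompletion.maximalIdeal_eq_map]
    exact AdicCompletion.isAdicComplete_self _ (maximalIdeal V).fg_of_isNoetherianRing
  refine ⟨AdicCompletion (maximalIdeal V) V, inferInstance, h1, h2, hc, algebraMap V _, ?_, ?_⟩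
  · have hH : IsHausdorff (maximalIdeal V) V := inferInstance
    exact AdicCompletion.of_injective (maximalIdeal V) V
  · rw [((local_hom_TFAE (algebraMap V (AdicCompletion (maximalIdeal V) V))).out 0 2 :)]
    rw [AdicCompletion.maximalIdeal_eq_map]

/-- Complete discrete valuation rings dominating the quotient of a local noetherian ring by a prime ideal. -/
theorem exists_cdvr (A : Type u) [CommRing A] [IsLocalRing A] [IsNoetherianRing A] (p : Ideal A) [p.IsPrime] :
    ∃ (O : Type u) (_ : CommRing O) (_ : IsDomain O) (_ : IsDiscreteValuationRing O)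
      (_ : IsAdicComplete (maximalIdeal O) O) (τ : A →+* O), RingHom.ker τ = p ∧ IsLocalHom τ := by
  have hloc : IsLocalRing (A ⧸ p) := IsLocalRing.of_surjective' _ Ideal.Quotient.mk_surjective
  by_cases hf : IsField (A ⧸ p)
  · let _ : Field (A ⧸ p) := hf.toField
    have hc : IsAdicComplete (maximalIdeal (PowerSeries (A ⧸ p))) (PowerSeries (A ⧸ p)) := by
      rw [PowerSeries.maximalIdeal_eq_span_X]
      infer_instance
    refine ⟨PowerSeries (A ⧸ p), inferInstance, inferInstance, inferInstance, hc,
      (PowerSeries.C (R := A ⧸ p)).comp (Ideal.Quotient.mk p), ?_, ?_⟩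
    · ext x
      rw [RingHom.mem_ker, RingHom.comp_apply, map_eq_zero_iff _ (PowerSeries.C_injective (R := A ⧸ p)),
        Ideal.Quotient.eq_zero_iff_mem]
    · have h1 : IsLocalHom (Ideal.Quotient.mk p) := IsLocalHom.of_surjective _ Ideal.Quotient.mk_surjective
      infer_instance
  · obtain ⟨V, _, _, _, _, _, _, _, hl, hi⟩ := Groth.Agent.Ega43.DvrDomination.exists_dvr_algebra (A ⧸ p) hf
      (FractionRing (A ⧸ p)) (IsFractionRing.injective _ _)
    obtain ⟨O, _, _, _, hO, τ, hτ, hτl⟩ := exists_complete V
    have h1 : IsLocalHom (Ideal.Quotient.mk p) := IsLocalHom.of_surjective _ Ideal.Quotient.mk_surjective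
    have hinj : Function.Injective (τ.comp (algebraMap (A ⧸ p) V)) := by
      rw [RingHom.coe_comp]
      exact hτ.comp hi
    refine ⟨O, inferInstance, inferInstance, inferInstance, hO,
      (τ.comp (algebraMap (A ⧸ p) V)).comp (Ideal.Quotient.mk p), ?_, ?_⟩
    · ext x
      rw [RingHom.mem_ker, RingHom.comp_apply, map_eq_zero_iff _ hinj, Ideal.Quotient.eq_zero_iff_mem]
    · infer_instance

end Groth.Agent.Sga3.H818.CDvr
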