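import Groth.Agent.Sga3.H818.Expand

/-!
# Compatible points of a scheme over a complete local ring algebraise
-/

set_option autoImplicit false
universe u
open CategoryTheory MonoidalCategory CartesianMonoidalCategory MonObj AlgebraicGeometry Limits

namespace Groth.Agent.Sga3.H818.FormalPt
open Groth.Agent.Sga3B.InfConj Groth.Agent.Sga3.H818.Extend Groth.Agent.Sga3.H818.Expand

variable {R : Type u} [CommRing R] {Z : Over (Spec (CommRingCat.of R))}

/-- Every point has an affine chart. -/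
lemma exists_pt_chart (z : Z.left) : ∃ (C : Type u) (_ : CommRing C) (_ : Algebra R C) (j : pt R C ⟶ Z),
    IsOpenImmersion j.left ∧ z ∈ Set.range j.left := by
  obtain ⟨V, hV, hz, -⟩ := exists_isAffineOpen_mem_and_subset (x := z) (U := ⊤) (by trivial)
  let C := Γ(Z.left, V)
  let a : CommRingCat.of R ⟶ C := Spec.preimage (hV.fromSpec ≫ Z.hom)
  have ha : Spec.map a = hV.fromSpec ≫ Z.hom := Spec.map_preimage _
  let _ : Algebra R C := a.hom.toAlgebra
  let j : pt R C ⟶ Z := Over.homMk hV.fromSpec ha.symm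
  refine ⟨C, inferInstance, inferInstance, j, inferInstanceAs (IsOpenImmersion hV.fromSpec), ?_⟩
  change z ∈ Set.range hV.fromSpec
  rw [hV.range_fromSpec]
  exact hz

/-- Points with values in local rings whose closed point lies in the chart. -/
theorem exists_chart_of_mem {C : Type u} [CommRing C] [Algebra R C] (j : pt R C ⟶ Z) [IsOpenImmersion j.left]
    {E : Type u} [CommRing E] [Algebra R E] [IsLocalRing E] (x : pt R E ⟶ Z)
    (hx : x.left (IsLocalRing.closedPoint E) ∈ Set.range j.left) :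
    ∃ h : C →ₐ[R] E, x = ptMap h ≫ j := by
  refine exists_lift_chart j x ?_
  let V : (Spec (CommRingCat.of E)).Opens := x.left ⁻¹ᵁ j.left.opensRange
  have h1 : IsLocalRing.closedPoint E ∈ V := hx
  have h3 : V = ⊤ := (IsLocalRing.closedPoint_mem_iff V).mp h1
  rintro _ ⟨z, rfl⟩
  have h4 : z ∈ V := by rw [h3]; trivial
  exact h4

/-- **Algebraisation of formal points.** -/
theorem exists_pt {A : Type u} [CommRing A] [Algebra R A] [IsLocalRing A] (I : Ideal A) (hI : I ≠ ⊤)
    [IsAdicComplete I A] (z : ∀ n, pt R (A ⧸ I ^ n) ⟶ Z)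
    (hz : ∀ m n (h : m ≤ n), ptMap (Ideal.Quotient.factorₐ R (Ideal.pow_le_pow_right h)) ≫ z n = z m) :
    ∃ z' : pt R A ⟶ Z, ∀ n, ptMap (Ideal.Quotient.mkₐ R (I ^ n)) ≫ z' = z n := by
  have hloc : ∀ n, IsLocalRing (A ⧸ I ^ (n + 1)) := fun n => by
    have : Nontrivial (A ⧸ I ^ (n + 1)) := by
      refine Ideal.Quotient.nontrivial_iff.mpr (fun h => ?_)
      have h1 : I ^ (n + 1) ≤ I := Ideal.pow_le_self (Nat.succ_ne_zero n)
      rw [h] at h1
      exact hI (top_le_iff.mp h1)
    exact IsLocalRing.of_surjective' _ Ideal.Quotient.mk_surjective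
  have hloc1 := hloc 0
  obtain ⟨C, _, _, j, hj, hjz⟩ := exists_pt_chart ((z (0 + 1)).left (IsLocalRing.closedPoint (A ⧸ I ^ (0 + 1))))
  have h1 : ∀ n, ∃ h : C →ₐ[R] A ⧸ I ^ (n + 1), z (n + 1) = ptMap h ≫ j := by
    intro n
    have := hloc n
    refine exists_chart_of_mem j (z (n + 1)) ?_
    have hle : I ^ (n + 1) ≤ I ^ (0 + 1) := Ideal.pow_le_pow_right (Nat.succ_le_succ (Nat.zero_le n))
    let g : A ⧸ I ^ (n + 1) →ₐ[R] A ⧸ I ^ (0 + 1) := Ideal.Quotient.factorₐ R hle
    have hg : IsLocalHom (g : A ⧸ I ^ (n + 1) →+* A ⧸ I ^ (0 + 1)) := IsLocalHom.of_surjective _ (by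
      exact Ideal.Quotient.factor_surjective hle)
    have h2 : IsLocalRing.closedPoint (A ⧸ I ^ (n + 1)) =
        (ptMap g).left (IsLocalRing.closedPoint (A ⧸ I ^ (0 + 1))) :=
      (IsLocalRing.comap_closedPoint (g : A ⧸ I ^ (n + 1) →+* A ⧸ I ^ (0 + 1))).symm
    rw [h2, ← Scheme.Hom.comp_apply, ← Over.comp_left, hz]
    · exact hjz
    · omega
  have h2 : ∀ n, ∃ h : C →ₐ[R] A ⧸ I ^ n, z n = ptMap h ≫ j := by
    intro n
    obtain _ | n := n
    · obtain ⟨h, hh⟩ := h1 0
      refine ⟨(Ideal.Quotient.factorₐ R (Ideal.pow_le_pow_right (Nat.zero_le 1))).comp h, ?_⟩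
      rw [← ptMap_comp, Category.assoc, ← hh, hz _ _ (Nat.zero_le 1)]
    · exact h1 n
  choose h hh using h2
  have hc : ∀ m n (hmn : m ≤ n), (Ideal.Quotient.factorₐ R (Ideal.pow_le_pow_right hmn)).comp (h n) = h m := by
    intro m n hmn
    apply chart_inj j
    rw [← ptMap_comp, Category.assoc, ← hh, ← hh, hz m n hmn]
  have h3 : ∀ c : C, ∃ x : A, ∀ n, Ideal.Quotient.mk (I ^ n) x = h n c := fun c =>
    exists_of_compat I (fun n => h n c) (fun m n hmn => by
      rw [← hc m n hmn]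
      rfl)
  choose v hv using h3
  let v' : C →ₐ[R] A :=
    { toFun := v
      map_one' := eq_of_mk I _ _ (fun n => by rw [hv, map_one, map_one])
      map_mul' := fun a b => eq_of_mk I _ _ (fun n => by rw [hv, map_mul, map_mul, hv, hv])
      map_zero' := eq_of_mk I _ _ (fun n => by rw [hv, map_zero, map_zero])
      map_add' := fun a b => eq_of_mk I _ _ (fun n => by rw [hv, map_add, map_add, hv, hv])
      commutes' := fun r => eq_of_mk I _ _ (fun n => by rw [hv, AlgHom.commutes]; rfl) }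
  refine ⟨ptMap v' ≫ j, fun n => ?_⟩
  have h4 : (Ideal.Quotient.mkₐ R (I ^ n)).comp v' = h n := AlgHom.ext fun c => hv c n
  rw [← Category.assoc, ptMap_comp, h4, hh]

end Groth.Agent.Sga3.H818.FormalPt
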