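import Groth.Agent.Sga3.H818.Effect
import Groth.Agent.Sga3.H818.FormalPt
import Groth.Agent.Sga3.H802.DSFam
import Groth.Agent.Sga3B.TorusRep898
import Groth.Agent.Sga3B.AffDvrBase789

/-!
# Formal homomorphisms from tori to affine groups are algebraic

* `isAlg_of_affine`: `G_O` smooth affine over the complete local ring `O`: every formal homomorphism is algebraic;
* `isAlg_of_dvr` : `O` a complete discrete valuation ring, `G` smooth with affine connected fibres.
-/

set_option autoImplicit false
universe u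
open CategoryTheory MonoidalCategory CartesianMonoidalCategory MonObj AlgebraicGeometry Limits
open scoped TensorProduct

namespace Groth.Agent.Sga3.H818.DvrCase
open Groth.Agent.Sga3B.InfConj Groth.Agent.Sga3.H802.HaarPts Groth.Agent.Sga3.H802.HaarHom
open Groth.Agent.Sga3.H802.HomFam Groth.Agent.Sga3.H802.DSFam
open Groth.Agent.Sga3B.HaarDef hiding exists_conj_abstract exists_hom_abstract
open Groth.Agent.Sga3.H818.Pts Groth.Agent.Sga3.H818.Effect
open Groth.Agent.Sga3B Groth.Agent.Sga3B.IsomOpen832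
open Groth.Agent.Sga3B.AffDvrGrp789 Groth.Agent.Sga3B.AffDvrBase789

section tower

variable {R O : Type u} [CommRing R] [CommRing O] [Algebra R O]

/-- `Spec X` over `Spec R` through `Spec O`. -/
noncomputable def towIso (R O : Type u) [CommRing R] [CommRing O] [Algebra R O] (X : Type u) [CommRing X]
    [Algebra O X] [Algebra R X] [IsScalarTower R O X] :
    (Over.map (pt R O).hom).obj (pt O X) ≅ pt R X :=
  Over.isoMk (Iso.refl _) (by
    simp only [Iso.refl_hom, Over.map_obj_hom, Over.mk_hom, Category.id_comp]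
    rw [← Spec.map_comp, ← CommRingCat.ofHom_comp, ← IsScalarTower.algebraMap_eq R O X])

lemma towIso_nat {X Y : Type u} [CommRing X] [Algebra O X] [Algebra R X] [IsScalarTower R O X]
    [CommRing Y] [Algebra O Y] [Algebra R Y] [IsScalarTower R O Y] (g : X →ₐ[O] Y) :
    (Over.map (pt R O).hom).map (ptMap g) ≫ (towIso R O X).hom =
      (towIso R O Y).hom ≫ ptMap (g.restrictScalars R) := by
  ext1
  simp only [towIso, Over.comp_left, Over.isoMk_hom_left, Iso.refl_hom]
  erw [Category.comp_id]

lemma towIso_nat_inv {X Y : Type u} [CommRing X] [Algebra O X] [Algebra R X] [IsScalarTower R O X]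
    [CommRing Y] [Algebra O Y] [Algebra R Y] [IsScalarTower R O Y] (g : X →ₐ[O] Y) :
    ptMap (g.restrictScalars R) ≫ (towIso R O X).inv =
      (towIso R O Y).inv ≫ (Over.map (pt R O).hom).map (ptMap g) := by
  rw [Iso.comp_inv_eq, Category.assoc, towIso_nat, Iso.inv_hom_id_assoc]

end tower

section fam

variable {R : Type u} [CommRing R] {D X Y : Type u} [CommRing D] [Bialgebra R D] [CommRing X] [Algebra R X]
  [CommRing Y] [Algebra R Y] {G E : Over (Spec (CommRingCat.of R))} [GrpObj G]

lemma famOf_pull (e : E ≅ pt R D) (F : pt R (D ⊗[R] X) ⟶ G) (π : X →ₐ[R] Y) :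
    (E ◁ ptMap π) ≫ famOf e F = famOf e (ptMap (T D π) ≫ F) := by
  apply toPt_injective e
  rw [toPt_pull, toPt_famOf, toPt_famOf]

lemma whisker_down {S₀ S : Scheme.{u}} (j : S₀ ⟶ S) {G H : Over S} {T T' : Over S₀} (a : T' ⟶ T)
    (φ : G ⊗ (Over.map j).obj T ⟶ H) :
    (Red.bc j G ◁ a) ≫ down j φ = down j ((G ◁ (Over.map j).map a) ≫ φ) := by
  conv_lhs => rw [← down_up j ((Red.bc j G ◁ a) ≫ down j φ), ← whisker_up, up_down]

end fam

section main

variable {R : Type u} [CommRing R] {G : Over (Spec (CommRingCat.of R))} [GrpObj G] {r : ℕ}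

/-- The torus over `Spec R`. -/
noncomputable def torIsoOver (R : Type u) [CommRing R] (M : Type) [AddCommGroup M] :
    Red.DS (Spec (CommRingCat.of R)) M ≅
      Groth.Agent.Books.AffBridge.SpecOver R (MonoidAlgebra R (Multiplicative M)) :=
  asIso (DSAff.dsTo R M)

instance (R : Type u) [CommRing R] (M : Type) [AddCommGroup M] : IsMonHom (torIsoOver R M).hom :=
  inferInstanceAs (IsMonHom (DSAff.dsTo R M))

/-- The torus over `Spec R`. -/
noncomputable def torIso (R : Type u) [CommRing R] (M : Type) [AddCommGroup M] :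
    Red.DS (Spec (CommRingCat.of R)) M ≅ pt R (MonoidAlgebra R (Multiplicative M)) :=
  torIsoOver R M

lemma isModel_torIso (R : Type u) [CommRing R] (M : Type) [AddCommGroup M] : IsModel (torIso R M) :=
  isModel_of_isMonHom (torIsoOver R M)

/-- Formal homomorphisms to affine smooth groups are algebraic. -/
theorem isAlg_of_affine {O : Type u} [CommRing O] [Algebra R O] [IsLocalRing O] [Smooth G.hom]
    (I : Ideal O) (hI : I ≠ ⊤) [IsAdicComplete I O] (haff : IsAffineHom (Red.bc (pt R O).hom G).hom)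
    (F : Formal G (Fin r) I) : F.IsAlg := by
  let x : Spec (CommRingCat.of O) ⟶ Spec (CommRingCat.of R) := (pt R O).hom
  let M := Fin r → ℤ
  let E : Over (Spec (CommRingCat.of R)) := Red.DS (Spec (CommRingCat.of R)) M
  let e : E ≅ pt R (DD R (Fin r)) := torIso R M
  have he : IsModel e := isModel_torIso R M
  have hsm : Smooth (Red.bc x G).hom := smooth_bc x G
  have hH : Red.IsSplitTorusWith M (Red.bc x E) := ⟨DsBc.constIso x (Red.diag (ULift.{u} ℤ) M)⟩
  obtain ⟨Z, υ, ⟨hυ, huniv⟩, -, -, -⟩ :=
    TorusRep898.exists_representsHom_split (Red.bc x E) (Red.bc x G) r hH hsm haff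
  let a : ∀ n, Red.bc x E ⊗ pt O (O ⧸ I ^ n) ⟶ Red.bc x G := fun n =>
    down x ((E ◁ (towIso R O (O ⧸ I ^ n)).hom) ≫ famOf e (F.F n))
  have ha : ∀ n, AutFam.IsHomFamily (Red.bc x E) (Red.bc x G) (a n) := fun n =>
    isHomFamily_down x (IsoFam.isHomFamily_pull ((isHomFamily_famOf_iff e he (F.F n)).mpr (F.hom n)) _)
  have hac : ∀ m n (h : m ≤ n), (Red.bc x E ◁ ptMap (Ideal.Quotient.factorₐ O (Ideal.pow_le_pow_right h))) ≫ a n =
      a m := by
    intro m n h
    change _ ≫ down x _ = down x _
    rw [whisker_down]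
    congr 1
    rw [← Category.assoc, ← MonoidalCategory.whiskerLeft_comp, towIso_nat, MonoidalCategory.whiskerLeft_comp,
      Category.assoc, famOf_pull]
    have h1 : (Ideal.Quotient.factorₐ O (Ideal.pow_le_pow_right h)).restrictScalars R =
        Ideal.Quotient.factorₐ R (Ideal.pow_le_pow_right (I := I) h) := by
      apply Ideal.Quotient.algHom_ext
      ext b
      rfl
    rw [h1, F.compat m n h]
  choose z hz hzu using fun n => huniv _ (a n) (ha n)
  obtain ⟨z', hz'⟩ := FormalPt.exists_pt (R := O) (A := O) (Z := Z) I hI z (fun m n h => by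
      apply hzu m
      rw [MonoidalCategory.whiskerLeft_comp, Category.assoc, hz, hac m n h])
  let φ : Red.bc x E ⊗ pt O O ⟶ Red.bc x G := (Red.bc x E ◁ z') ≫ υ
  have hφ : AutFam.IsHomFamily (Red.bc x E) (Red.bc x G) φ := IsoFam.isHomFamily_pull hυ z'
  let u : E ⊗ pt R O ⟶ G := (E ◁ (towIso R O O).inv) ≫ up x φ
  have hu : AutFam.IsHomFamily E G u := IsoFam.isHomFamily_pull (isHomFamily_up x hφ) _
  refine ⟨toPt e u, (isHomPt_toPt_iff e he u).mpr hu, fun n => ?_⟩
  rw [← toPt_pull]
  have h2 : (E ◁ ptMap (Ideal.Quotient.mkₐ R (I ^ n))) ≫ u = famOf e (F.F n) := by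
    change _ ≫ (_ ≫ _) = _
    have h3 : (Ideal.Quotient.mkₐ O (I ^ n)).restrictScalars R = Ideal.Quotient.mkₐ R (I ^ n) := by
      ext b
      rfl
    rw [← Category.assoc, ← MonoidalCategory.whiskerLeft_comp, ← h3, towIso_nat_inv,
      MonoidalCategory.whiskerLeft_comp, Category.assoc, whisker_up]
    have h4 : (Red.bc x E ◁ ptMap (Ideal.Quotient.mkₐ O (I ^ n))) ≫ φ = a n := by
      change _ ≫ (_ ≫ _) = _
      rw [← Category.assoc, ← MonoidalCategory.whiskerLeft_comp, hz', hz]
    rw [h4]
    change _ ≫ up x (down x _) = _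
    rw [up_down, ← Category.assoc, ← MonoidalCategory.whiskerLeft_comp, Iso.inv_hom_id,
      MonoidalCategory.whiskerLeft_id, Category.id_comp]
  rw [h2, toPt_famOf]

/-- Formal homomorphisms over complete discrete valuation rings are algebraic. -/
theorem isAlg_of_dvr {O : Type u} [CommRing O] [IsDomain O] [IsDiscreteValuationRing O] [Algebra R O]
    [IsAdicComplete (IsLocalRing.maximalIdeal O) O] [Smooth G.hom] [QuasiCompact G.hom]
    [GeometricallyIrreducible G.hom] (hG : AffFib G.hom)
    (F : Formal G (Fin r) (IsLocalRing.maximalIdeal O)) : F.IsAlg := by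
  have h1 : Smooth (Red.bc (pt R O).hom G).hom := smooth_bc _ G
  have h2 : QuasiCompact (Red.bc (pt R O).hom G).hom := quasiCompact_bc _ G
  have h3 : GeometricallyIrreducible (Red.bc (pt R O).hom G).hom := geometricallyIrreducible_bc _ G
  have h4 : IsAffine (Red.bc (pt R O).hom G).left := isAffine_dvr _ (affFib_bc _ G hG)
  have h6 : IsAffine (pt R O).left := inferInstanceAs (IsAffine (Spec (CommRingCat.of O)))
  have h5 : IsAffineHom (Red.bc (pt R O).hom G).hom :=
    isAffineHom_of_isAffine (Red.bc (pt R O).hom G).hom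
  exact isAlg_of_affine _ (IsLocalRing.maximalIdeal.isMaximal O).ne_top h5 F

end main

end Groth.Agent.Sga3.H818.DvrCase
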