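import Groth.Agent.Sga3.H818.Expand

/-!
# Algebraisation of formal homomorphisms

`A` is a complete noetherian reduced local ring, `F n : T ⟶ G` compatible homomorphisms over `A / m ^ n`. If the
formal homomorphism is algebraic over complete local domains `R'` dominating `A / p` (`p` a minimal prime), then it is
algebraic over `A`: `exists_algebraize`.
-/

set_option autoImplicit false
universe u
open CategoryTheory MonoidalCategory CartesianMonoidalCategory MonObj AlgebraicGeometry Limits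
open scoped TensorProduct

namespace Groth.Agent.Sga3.H818.Effect
open Groth.Agent.Sga3B.InfConj Groth.Agent.Sga3.H802.HaarPts Groth.Agent.Sga3.H802.HaarHom
open Groth.Agent.Sga3B.HaarDef hiding exists_conj_abstract exists_hom_abstract
open Groth.Agent.Sga3.H818.PS Groth.Agent.Sga3.H818.Pts Groth.Agent.Sga3.H818.Univ Groth.Agent.Sga3.H818.Extend
open Groth.Agent.Sga3.H818.Expand

local notation "cst" => Groth.Agent.Sga3B.HaarDef.«ι»

variable {R : Type u} [CommRing R] {G : Over (Spec (CommRingCat.of R))} [GrpObj G]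
  {κ : Type} [Fintype κ]

/-- Compatible systems of homomorphisms `T ⟶ G` over `A / I ^ n`. -/
structure Formal (G : Over (Spec (CommRingCat.of R))) [GrpObj G] (κ : Type) [Fintype κ] {A : Type u} [CommRing A]
    [Algebra R A] (I : Ideal A) where
  /-- the homomorphisms -/
  F : ∀ n : ℕ, pt R (DD R κ ⊗[R] (A ⧸ I ^ n)) ⟶ G
  hom : ∀ n, IsHomPt (F n)
  compat : ∀ m n (h : m ≤ n), ptMap (T (DD R κ) (Ideal.Quotient.factorₐ R (Ideal.pow_le_pow_right h))) ≫ F n = F m

/-- The formal homomorphism is induced by an actual one. -/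
def Formal.IsAlg {A : Type u} [CommRing A] [Algebra R A] {I : Ideal A} (F : Formal G κ I) : Prop :=
  ∃ F' : pt R (DD R κ ⊗[R] A) ⟶ G, IsHomPt F' ∧
    ∀ n, ptMap (T (DD R κ) (Ideal.Quotient.mkₐ R (I ^ n))) ≫ F' = F.F n

section push

variable {A B : Type u} [CommRing A] [CommRing B] [Algebra R A] [Algebra R B] {I : Ideal A} {J : Ideal B}

/-- The map `A / I ^ n → B / J ^ n`. -/
noncomputable def quo (τ : A →ₐ[R] B) (h : I ≤ J.comap τ) (n : ℕ) : A ⧸ I ^ n →ₐ[R] B ⧸ J ^ n :=
  Ideal.Quotient.liftₐ (I ^ n) ((Ideal.Quotient.mkₐ R (J ^ n)).comp τ) (fun a ha => by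
    refine Ideal.Quotient.eq_zero_iff_mem.mpr ?_
    have h1 : I ^ n ≤ (J ^ n).comap τ := by
      rw [← Ideal.map_le_iff_le_comap, Ideal.map_pow]
      exact Ideal.pow_right_mono (Ideal.map_le_iff_le_comap.mpr h) n
    exact h1 ha)

lemma quo_comp_mk (τ : A →ₐ[R] B) (h : I ≤ J.comap τ) (n : ℕ) :
    (quo τ h n).comp (Ideal.Quotient.mkₐ R (I ^ n)) = (Ideal.Quotient.mkₐ R (J ^ n)).comp τ := by
  ext a
  rfl

lemma quo_factor (τ : A →ₐ[R] B) (h : I ≤ J.comap τ) {m n : ℕ} (hmn : m ≤ n) :
    (Ideal.Quotient.factorₐ R (Ideal.pow_le_pow_right hmn)).comp (quo τ h n) =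
      (quo τ h m).comp (Ideal.Quotient.factorₐ R (Ideal.pow_le_pow_right hmn)) := by
  apply Ideal.Quotient.algHom_ext
  ext a
  rfl

/-- Base change of a formal homomorphism. -/
noncomputable def Formal.push (F : Formal G κ I) (τ : A →ₐ[R] B) (h : I ≤ J.comap τ) : Formal G κ J where
  F n := ptMap (T (DD R κ) (quo τ h n)) ≫ F.F n
  hom n := (F.hom n).map _
  compat m n hmn := by
    rw [← Category.assoc, ptMap_comp, T_comp, quo_factor τ h hmn, ← T_comp, ← ptMap_comp, Category.assoc,
      F.compat m n hmn]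

end push

section w

variable {A : Type u} [CommRing A] [Algebra R A] (I : Ideal A) (F : Formal G κ I)
  {C : Type u} [CommRing C] [Algebra R C] (j : pt R C ⟶ G) [IsOpenImmersion j.left]

omit [Fintype κ] in
/-- Evaluation at the formal point. -/
lemma evL_uP {s : MvPolynomial κ A} (hs : IsUnit (MvPolynomial.constantCoeff s)) {X : Type u} [CommRing X]
    [Algebra R X] (g : A →ₐ[R] X) (h : IsUnit (evM ((cP R X κ).comp g) (crd (uP X)) s)) :
    evL ((cP R X κ).comp g) (crd (uP X)) s h =
      (MvPowerSeries.mapAlgHom g).comp ((toPS s hs).restrictScalars R) := by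
  refine homL_ext (fun p => ?_)
  rw [evL_algebraMap, AlgHom.comp_apply, AlgHom.restrictScalars_apply, toPS_algebraMap]
  have h1 : evM ((cP R X κ).comp g) (crd (uP X)) = (MvPowerSeries.mapAlgHom g).comp
      ((MvPolynomial.coeToMvPowerSeries.algHom A : MvPolynomial κ A →ₐ[A] MvPowerSeries κ A).restrictScalars R) := by
    refine hom_ext (fun x => ?_) (fun k => ?_)
    · rw [evM_C]
      simp only [AlgHom.comp_apply, AlgHom.restrictScalars_apply, MvPolynomial.coeToMvPowerSeries.algHom_apply,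
        MvPowerSeries.mapAlgHom_apply]
      simp [MvPowerSeries.algebraMap_apply]
    · rw [evM_X]
      simp only [AlgHom.comp_apply, AlgHom.restrictScalars_apply, MvPolynomial.coeToMvPowerSeries.algHom_apply,
        MvPowerSeries.mapAlgHom_apply]
      simp [crd, uP_val]
  rw [h1]
  simp only [AlgHom.comp_apply, AlgHom.restrictScalars_apply, MvPolynomial.coeToMvPowerSeries.algHom_apply,
    MvPowerSeries.mapAlgHom_apply]
  simp

omit [Fintype κ] in
lemma evM_map {X E : Type u} [CommRing X] [Algebra R X] [CommRing E] [Algebra R E] (g : A →ₐ[R] X) (ψ : X →ₐ[R] E)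
    (e : κ → E) (s : MvPolynomial κ A) :
    evM ψ e (MvPolynomial.map (g : A →+* X) s) = evM (ψ.comp g) e s := by
  have h1 : (evM ψ e : MvPolynomial κ X →+* E).comp (MvPolynomial.map (g : A →+* X)) =
      (evM (ψ.comp g) e : MvPolynomial κ A →+* E) :=
    MvPolynomial.ringHom_ext (fun x => by simp) (fun i => by simp)
  exact congrArg (fun k : MvPolynomial κ A →+* E => k s) h1

omit [IsOpenImmersion j.left] in
/-- The rational homomorphism `w` agrees with the formal one. -/
theorem agree [IsSeparated G.hom] (v : C →ₐ[R] MvPowerSeries κ A)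
    (hv : ∀ n, xp (F.F n) = ptMap ((MvPowerSeries.mapAlgHom (Ideal.Quotient.mkₐ R (I ^ n))).comp v) ≫ j)
    {s : MvPolynomial κ A} (hs : MvPolynomial.constantCoeff s = 1)
    (hs' : IsUnit (MvPolynomial.constantCoeff s)) (w₀ : C →ₐ[R] Localization.Away s)
    (hw₀ : ((toPS s hs').restrictScalars R).comp w₀ = v)
    (n : ℕ) (E : Type u) [CommRing E] [Algebra R E] (ψ : A ⧸ I ^ n →ₐ[R] E) (t : κ → Eˣ)
    (ht : Ok s (ψ.comp (Ideal.Quotient.mkₐ R (I ^ n))) t) :
    wv (ptMap w₀ ≫ j) (ψ.comp (Ideal.Quotient.mkₐ R (I ^ n))) t = pv (F.F n) ψ t := by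
  set q := Ideal.Quotient.mkₐ R (I ^ n) with hq
  let σ : MvPolynomial κ (A ⧸ I ^ n) := MvPolynomial.map (q : A →+* A ⧸ I ^ n) s
  have hσ : IsUnit (MvPolynomial.constantCoeff σ) := by
    rw [MvPolynomial.constantCoeff_map, hs, map_one]
    exact isUnit_one
  obtain ⟨U, _, _, φ, T', hT', ⟨Ψ, hΨ, hΨφ, hΨT⟩, huniv⟩ := exists_univ (R := R) σ hσ
  have hok : Ok s (φ.comp q) T' := by
    have := hT'
    rw [evM_map] at this
    exact this
  obtain ⟨g, hg1, hg2⟩ := huniv E ψ t (by rw [evM_map]; exact ht)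
  have key : wv (ptMap w₀ ≫ j) (φ.comp q) T' = pv (F.F n) φ T' := by
    apply ptMap_injective Ψ hΨ
    have hok' := hok.map Ψ
    rw [ptMap_wv _ hok, ptMap_pv]
    rw [← AlgHom.comp_assoc, hΨφ] at hok' ⊢
    simp only [hΨT] at hok' ⊢
    rw [wv_of _ hok', evL_uP hs', ← Category.assoc, ptMap_comp, AlgHom.comp_assoc, hw₀, ← hv]
    rfl
  have h5 := congrArg (fun z => ptMap g ≫ z) key
  rw [ptMap_wv _ hok, ptMap_pv, ← AlgHom.comp_assoc, hg1] at h5
  simp only [hg2] at h5
  exact h5

end w

section main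

variable {A : Type u} [CommRing A] [Algebra R A] [IsLocalRing A] [IsNoetherianRing A] [IsReduced A]
  [IsAdicComplete (IsLocalRing.maximalIdeal A) A]
  {C : Type u} [CommRing C] [Algebra R C] (j : pt R C ⟶ G) [IsOpenImmersion j.left]
  (hj : Set.range η[G].left ⊆ Set.range j.left)

lemma isLocalRing_quotient_pow (A : Type u) [CommRing A] [IsLocalRing A] (n : ℕ) :
    IsLocalRing (A ⧸ IsLocalRing.maximalIdeal A ^ (n + 1)) := by
  have : Nontrivial (A ⧸ IsLocalRing.maximalIdeal A ^ (n + 1)) := by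
    refine Ideal.Quotient.nontrivial_iff.mpr (fun h => ?_)
    have h1 : IsLocalRing.maximalIdeal A ^ (n + 1) ≤ IsLocalRing.maximalIdeal A :=
      Ideal.pow_le_self (Nat.succ_ne_zero n)
    rw [h] at h1
    exact (IsLocalRing.maximalIdeal.isMaximal A).ne_top (top_le_iff.mp h1)
  exact IsLocalRing.of_surjective' _ Ideal.Quotient.mk_surjective

include hj in
/-- Expansion of a formal homomorphism at the unit section. -/
theorem exists_v {A : Type u} [CommRing A] [Algebra R A] [IsLocalRing A]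
    [IsAdicComplete (IsLocalRing.maximalIdeal A) A] (F : Formal G κ (IsLocalRing.maximalIdeal A)) :
    ∃ v : C →ₐ[R] MvPowerSeries κ A, ∀ n, xp (F.F n) =
      ptMap ((MvPowerSeries.mapAlgHom (Ideal.Quotient.mkₐ R (IsLocalRing.maximalIdeal A ^ n))).comp v) ≫ j := by
  have h1 : ∀ n, ∃ h : C →ₐ[R] MvPowerSeries κ (A ⧸ IsLocalRing.maximalIdeal A ^ n),
      xp (F.F n) = ptMap h ≫ j := by
    have h2 : ∀ n, ∃ h : C →ₐ[R] MvPowerSeries κ (A ⧸ IsLocalRing.maximalIdeal A ^ (n + 1)),
        xp (F.F (n + 1)) = ptMap h ≫ j := by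
      intro n
      have := isLocalRing_quotient_pow A n
      exact exists_expand j hj (F.hom (n + 1))
    intro n
    obtain _ | n := n
    · obtain ⟨h, hh⟩ := h2 0
      refine ⟨(MvPowerSeries.mapAlgHom (Ideal.Quotient.factorₐ R (Ideal.pow_le_pow_right (Nat.zero_le 1)))).comp h, ?_⟩
      rw [← ptMap_comp, Category.assoc, ← hh, map_xp, F.compat _ _ (Nat.zero_le 1)]
    · exact h2 n
  choose h hh using h1
  obtain ⟨v, hv⟩ := exists_limit (IsLocalRing.maximalIdeal A) h (fun m n hmn =>
    expand_map j _ (F.compat m n hmn) (hh n) (hh m))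
  exact ⟨v, fun n => by rw [hv, hh]⟩

include hj in
/-- **Algebraisation of formal homomorphisms.** -/
theorem exists_algebraize [IsSeparated G.hom] [Algebra.FiniteType R C]
    (F : Formal G κ (IsLocalRing.maximalIdeal A))
    (H : ∀ p ∈ minimalPrimes A, ∃ (R' : Type u) (_ : CommRing R') (_ : Algebra R R') (_ : IsDomain R')
      (_ : IsLocalRing R') (_ : IsAdicComplete (IsLocalRing.maximalIdeal R') R') (τ : A →ₐ[R] R')
      (hτ : IsLocalRing.maximalIdeal A ≤ (IsLocalRing.maximalIdeal R').comap τ),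
      RingHom.ker τ = p ∧ (F.push τ hτ).IsAlg) : F.IsAlg := by
  classical
  obtain ⟨v, hv⟩ := exists_v j hj F
  -- rationality of the expansion
  have hrat : ∀ c : C, ∃ s a : MvPolynomial κ A, MvPolynomial.constantCoeff s = 1 ∧
      (s : MvPowerSeries κ A) * v c = a := by
    intro c
    refine Alg.exists_mul_eq_of_minimalPrimes (v c) (fun p hp => ?_)
    obtain ⟨R', _, _, _, _, _, τ, hτ, hker, F', hF', hF'n⟩ := H p hp
    refine ⟨R', inferInstance, inferInstance, τ, hker, ?_⟩
    obtain ⟨h', hh'⟩ := exists_expand j hj hF'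
    have h1 : (MvPowerSeries.mapAlgHom τ).comp v = h' := by
      ext1 c
      refine mapAlgHom_ext (R := R) (IsLocalRing.maximalIdeal R') (fun n => ?_)
      have e1 : xp ((F.push τ hτ).F n) =
          ptMap ((MvPowerSeries.mapAlgHom (Ideal.Quotient.mkₐ R (IsLocalRing.maximalIdeal R' ^ n))).comp h') ≫ j := by
        rw [← hF'n, ← map_xp, hh', ← Category.assoc, ptMap_comp]
      have e2 : xp ((F.push τ hτ).F n) = ptMap ((MvPowerSeries.mapAlgHom (quo τ hτ n)).comp
          ((MvPowerSeries.mapAlgHom (Ideal.Quotient.mkₐ R (IsLocalRing.maximalIdeal A ^ n))).comp v)) ≫ j := by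
        change xp (ptMap (T (DD R κ) (quo τ hτ n)) ≫ F.F n) = _
        rw [← map_xp, hv, ← Category.assoc, ptMap_comp]
      have e3 := AlgHom.congr_fun (chart_inj j (e1.symm.trans e2)) c
      rw [AlgHom.comp_apply] at e3
      rw [e3]
      ext d
      simp only [AlgHom.comp_apply, MvPowerSeries.mapAlgHom_apply, MvPowerSeries.coeff_map]
      rfl
    obtain ⟨b, a, hb, hba⟩ := expand_rational j hj hF' hh' c
    refine ⟨b, a, hb, ?_⟩
    rw [← hba, ← h1]
    rfl
  choose s a hs ha using hrat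
  obtain ⟨S, hS⟩ := Algebra.FiniteType.out (R := R) (A := C)
  let s' : MvPolynomial κ A := ∏ c ∈ S, s c
  have hs1 : MvPolynomial.constantCoeff s' = 1 := by
    rw [map_prod]
    exact Finset.prod_eq_one (fun c _ => hs c)
  have hs2 : IsUnit (MvPolynomial.constantCoeff s') := by rw [hs1]; exact isUnit_one
  let Θ : Localization.Away s' →ₐ[R] MvPowerSeries κ A := (toPS s' hs2).restrictScalars R
  have hΘ : Function.Injective Θ := toPS_injective s' hs2
  have hmem : ∀ c, v c ∈ Θ.range := by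
    have h1 : (⊤ : Subalgebra R C) ≤ Θ.range.comap v := by
      rw [← hS, Algebra.adjoin_le_iff]
      intro c hc
      have hc' : c ∈ S := hc
      change v c ∈ Θ.range
      -- `s' * v c` is a polynomial
      obtain ⟨p, hp⟩ : ∃ p : MvPolynomial κ A, (s' : MvPowerSeries κ A) * v c = p := by
        refine ⟨(∏ c' ∈ S.erase c, s c') * a c, ?_⟩
        have h2 : s' = (∏ c' ∈ S.erase c, s c') * s c := (Finset.prod_erase_mul S s hc').symm
        rw [h2, MvPolynomial.coe_mul, MvPolynomial.coe_mul, _root_.mul_assoc, ha c]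
      have h3 : IsUnit (algebraMap (MvPolynomial κ A) (Localization.Away s') s') :=
        IsLocalization.map_units (Localization.Away s') (⟨s', 1, pow_one s'⟩ : Submonoid.powers s')
      obtain ⟨x, hx⟩ := h3
      refine ⟨(x⁻¹ : (Localization.Away s')ˣ) * algebraMap _ _ p, ?_⟩
      have h4 : Θ (algebraMap (MvPolynomial κ A) (Localization.Away s') s') = s' := toPS_algebraMap s' hs2 s'
      have h5 : Θ (algebraMap (MvPolynomial κ A) (Localization.Away s') p) = p := toPS_algebraMap s' hs2 p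
      change Θ (_ * _) = _
      rw [map_mul, h5, ← hp, ← h4, ← hx, ← _root_.mul_assoc, ← map_mul, Units.inv_mul, map_one, _root_.one_mul]
    exact fun c => h1 trivial
  let w₀ : C →ₐ[R] Localization.Away s' :=
    ((AlgEquiv.ofInjective Θ hΘ).symm : Θ.range →ₐ[R] _).comp (v.codRestrict Θ.range hmem)
  have hw₀ : Θ.comp w₀ = v := by
    ext1 c
    change Θ ((AlgEquiv.ofInjective Θ hΘ).symm ⟨v c, hmem c⟩) = v c
    exact congrArg Subtype.val ((AlgEquiv.ofInjective Θ hΘ).apply_symm_apply ⟨v c, hmem c⟩)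
  exact exists_extend (IsLocalRing.maximalIdeal A) (fun x hx => eq_zero_of_mem_pow _ x hx) F.F F.hom hs1
    (ptMap w₀ ≫ j) (fun n E _ _ ψ t ht => agree _ F j v hv hs1 hs2 w₀ hw₀ n E ψ t ht)

end main

end Groth.Agent.Sga3.H818.Effect
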