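import Groth.Agent.Sga3.H818.Extend

/-!
# Expansion of homomorphisms at the unit section

`j : pt R C ⟶ G` is an affine open neighbourhood of the unit section. A homomorphism `F : T_X ⟶ G` over a local
`R`-algebra `X` has an expansion `C →ₐ[R] X[[x]]` at the unit section.

* `exists_expand`, `expand_unique`, `expand_map` : expansion and its functoriality;
* `exists_limit` : limits of compatible expansions over a complete ring;
* `expand_rational` : the expansion of a homomorphism over a domain is rational.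
-/

set_option autoImplicit false
universe u
open CategoryTheory MonoidalCategory CartesianMonoidalCategory MonObj AlgebraicGeometry Limits
open scoped TensorProduct

namespace Groth.Agent.Sga3.H818.Expand
open Groth.Agent.Sga3B.InfConj Groth.Agent.Sga3.H802.HaarPts Groth.Agent.Sga3.H802.HaarHom
open Groth.Agent.Sga3B.HaarDef hiding exists_conj_abstract exists_hom_abstract
open Groth.Agent.Sga3.H818.PS Groth.Agent.Sga3.H818.Pts Groth.Agent.Sga3.H818.Univ Groth.Agent.Sga3.H818.Extend

local notation "cst" => Groth.Agent.Sga3B.HaarDef.«ι»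

section chart

variable {R : Type u} [CommRing R] {G : Over (Spec (CommRingCat.of R))}
  {C : Type u} [CommRing C] [Algebra R C] (j : pt R C ⟶ G) [IsOpenImmersion j.left]

include j in
/-- Lifting a point of `G` to the chart. -/
lemma exists_lift_chart {E : Type u} [CommRing E] [Algebra R E] (x : pt R E ⟶ G)
    (hx : Set.range x.left ⊆ Set.range j.left) : ∃ h : C →ₐ[R] E, x = ptMap h ≫ j := by
  let l : pt R E ⟶ pt R C := Over.homMk (IsOpenImmersion.lift j.left x.left hx) (by
    rw [← Over.w j, ← Category.assoc, IsOpenImmersion.lift_fac, Over.w])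
  have hl : l ≫ j = x := by
    ext1
    exact IsOpenImmersion.lift_fac j.left x.left hx
  obtain ⟨h, hh⟩ := exists_eq_ptMap l
  exact ⟨h, by rw [← hh, hl]⟩

lemma chart_inj {E : Type u} [CommRing E] [Algebra R E] {h h' : C →ₐ[R] E} (e : ptMap h ≫ j = ptMap h' ≫ j) :
    h = h' := by
  have : Mono j := Over.mono_of_mono_left j
  exact ptMap_injective' ((cancel_mono j).mp e)

variable [GrpObj G]

lemma one_left_mem {T : Over (Spec (CommRingCat.of R))} (z : T.left) :
    (1 : T ⟶ G).left z ∈ Set.range η[G].left := by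
  rw [Hom.one_def, Over.comp_left]
  exact ⟨_, rfl⟩

/-- Points with values in local rings which specialise to the unit lie in the chart. -/
theorem exists_chart (hj : Set.range η[G].left ⊆ Set.range j.left)
    {E k : Type u} [CommRing E] [CommRing k] [Algebra R E] [Algebra R k] [IsLocalRing E] [IsLocalRing k]
    (ρ : E →ₐ[R] k) [IsLocalHom (ρ : E →+* k)] (x : pt R E ⟶ G) (hx : ptMap ρ ≫ x = 1) :
    ∃ h : C →ₐ[R] E, x = ptMap h ≫ j := by
  refine exists_lift_chart j x ?_
  let V : (Spec (CommRingCat.of E)).Opens := x.left ⁻¹ᵁ j.left.opensRange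
  have h1 : IsLocalRing.closedPoint E ∈ V := by
    have h2 : IsLocalRing.closedPoint E = (ptMap ρ).left (IsLocalRing.closedPoint k) :=
      (IsLocalRing.comap_closedPoint (ρ : E →+* k)).symm
    change x.left (IsLocalRing.closedPoint E) ∈ Set.range j.left
    rw [h2, ← Scheme.Hom.comp_apply, ← Over.comp_left, hx]
    exact hj (one_left_mem _)
  have h3 : V = ⊤ := (IsLocalRing.closedPoint_mem_iff V).mp h1
  rintro _ ⟨z, rfl⟩
  have h4 : z ∈ V := by rw [h3]; trivial
  exact h4

end chart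

section expand

variable {R : Type u} [CommRing R] {X Y : Type u} [CommRing X] [CommRing Y] [Algebra R X] [Algebra R Y] {κ : Type}

/-- The constant coefficient. -/
noncomputable def c0 (R : Type u) [CommRing R] (X : Type u) [CommRing X] [Algebra R X] (κ : Type) :
    MvPowerSeries κ X →ₐ[R] X :=
  { MvPowerSeries.constantCoeff (σ := κ) (R := X) with
    commutes' := fun r => by
      change MvPowerSeries.constantCoeff (algebraMap R (MvPowerSeries κ X) r) = _
      rw [MvPowerSeries.algebraMap_apply, MvPowerSeries.constantCoeff_C] }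

lemma c0_apply (f : MvPowerSeries κ X) : c0 R X κ f = MvPowerSeries.constantCoeff f := rfl

lemma c0_comp_cP : (c0 R X κ).comp (cP R X κ) = AlgHom.id R X := by
  ext1 x
  change MvPowerSeries.constantCoeff (MvPowerSeries.C (σ := κ) x) = x
  rw [MvPowerSeries.constantCoeff_C]

lemma c0_uP (k : κ) : Units.map (c0 R X κ : MvPowerSeries κ X →* X) (uP X k) = 1 := by
  ext1
  change MvPowerSeries.constantCoeff (1 + MvPowerSeries.X k) = 1
  simp

instance : IsLocalHom (c0 R X κ : MvPowerSeries κ X →+* X) :=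
  ⟨fun _ hf => (MvPowerSeries.isUnit_iff_constantCoeff).mpr hf⟩

lemma mapAlgHom_comp_cP (g : X →ₐ[R] Y) :
    (MvPowerSeries.mapAlgHom (σ := κ) g).comp (cP R X κ) = (cP R Y κ).comp g := by
  ext1 x
  change MvPowerSeries.map (g : X →+* Y) (MvPowerSeries.C x) = MvPowerSeries.C (g x)
  rw [MvPowerSeries.map_C]
  rfl

lemma map_uP (g : X →ₐ[R] Y) (k : κ) :
    Units.map (MvPowerSeries.mapAlgHom (σ := κ) g : MvPowerSeries κ X →* MvPowerSeries κ Y) (uP X k) = uP Y k := by
  ext1
  change MvPowerSeries.map (g : X →+* Y) (1 + MvPowerSeries.X k) = 1 + MvPowerSeries.X k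
  simp

variable [Fintype κ] {G : Over (Spec (CommRingCat.of R))}

/-- The restriction of `F : T_X ⟶ G` to the formal neighbourhood of the unit section. -/
noncomputable def xp (F : pt R (DD R κ ⊗[R] X) ⟶ G) : pt R (MvPowerSeries κ X) ⟶ G := pv F (cP R X κ) (uP X)

lemma map_xp (g : X →ₐ[R] Y) (F : pt R (DD R κ ⊗[R] X) ⟶ G) :
    ptMap (MvPowerSeries.mapAlgHom g) ≫ xp F = xp (ptMap (T (DD R κ) g) ≫ F) := by
  unfold xp
  rw [ptMap_pv, pv_T, mapAlgHom_comp_cP]
  congr 1
  funext k
  exact map_uP g k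

variable [GrpObj G]

lemma c0_xp {F : pt R (DD R κ ⊗[R] X) ⟶ G} (hF : IsHomPt F) : ptMap (c0 R X κ) ≫ xp F = 1 := by
  unfold xp
  rw [ptMap_pv, c0_comp_cP]
  simp only [c0_uP]
  exact pv_one hF _

variable {C : Type u} [CommRing C] [Algebra R C] (j : pt R C ⟶ G) [IsOpenImmersion j.left]
  (hj : Set.range η[G].left ⊆ Set.range j.left)

include hj in
theorem exists_expand [IsLocalRing X] {F : pt R (DD R κ ⊗[R] X) ⟶ G} (hF : IsHomPt F) :
    ∃ h : C →ₐ[R] MvPowerSeries κ X, xp F = ptMap h ≫ j :=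
  exists_chart j hj (c0 R X κ) (xp F) (c0_xp hF)

omit [GrpObj G] in
theorem expand_map {F : pt R (DD R κ ⊗[R] X) ⟶ G} {F' : pt R (DD R κ ⊗[R] Y) ⟶ G} (g : X →ₐ[R] Y)
    (hg : ptMap (T (DD R κ) g) ≫ F = F') {h : C →ₐ[R] MvPowerSeries κ X} {h' : C →ₐ[R] MvPowerSeries κ Y}
    (e : xp F = ptMap h ≫ j) (e' : xp F' = ptMap h' ≫ j) : (MvPowerSeries.mapAlgHom g).comp h = h' := by
  apply chart_inj j
  rw [← ptMap_comp, Category.assoc, ← e, map_xp, hg, e']

end expand

section limit

variable {R : Type u} [CommRing R] {A : Type u} [CommRing A] [Algebra R A] (I : Ideal A) [IsAdicComplete I A]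
  {κ : Type} {C : Type u} [CommRing C] [Algebra R C]

omit [IsAdicComplete I A] in
lemma smodEq_iff (n : ℕ) (x y : A) :
    x ≡ y [SMOD (I ^ n • ⊤ : Submodule A A)] ↔ Ideal.Quotient.mk (I ^ n) x = Ideal.Quotient.mk (I ^ n) y := by
  rw [SModEq.sub_mem, Ideal.Quotient.eq, smul_eq_mul, Ideal.mul_top]

lemma eq_of_mk (x y : A) (h : ∀ n, Ideal.Quotient.mk (I ^ n) x = Ideal.Quotient.mk (I ^ n) y) : x = y := by
  have h1 := IsHausdorff.haus (inferInstance : IsHausdorff I A) (x - y) (fun n => by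
    rw [smodEq_iff, map_sub, map_zero, h, sub_self])
  exact sub_eq_zero.mp h1

lemma eq_zero_of_mem_pow (x : A) (h : ∀ n, x ∈ I ^ n) : x = 0 :=
  eq_of_mk I x 0 (fun n => by rw [map_zero]; exact Ideal.Quotient.eq_zero_iff_mem.mpr (h n))

/-- Elements of the limit. -/
lemma exists_of_compat (a : ∀ n, A ⧸ I ^ n)
    (ha : ∀ m n (h : m ≤ n), Ideal.Quotient.factor (Ideal.pow_le_pow_right h) (a n) = a m) :
    ∃ x : A, ∀ n, Ideal.Quotient.mk (I ^ n) x = a n := by
  choose f hf using fun n => Ideal.Quotient.mk_surjective (a n)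
  obtain ⟨L, hL⟩ := IsPrecomplete.prec (inferInstance : IsPrecomplete I A) (f := f) (fun {m n} h => by
    rw [smodEq_iff, hf, ← ha m n h, ← hf n]
    rfl)
  refine ⟨L, fun n => ?_⟩
  have := hL n
  rw [smodEq_iff, hf] at this
  exact this.symm

lemma mapAlgHom_ext {f g : MvPowerSeries κ A}
    (h : ∀ n, MvPowerSeries.mapAlgHom (Ideal.Quotient.mkₐ R (I ^ n)) f =
      MvPowerSeries.mapAlgHom (Ideal.Quotient.mkₐ R (I ^ n)) g) : f = g := by
  ext d
  refine eq_of_mk I _ _ (fun n => ?_)
  have := congrArg (MvPowerSeries.coeff d) (h n)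
  rw [MvPowerSeries.mapAlgHom_apply, MvPowerSeries.mapAlgHom_apply, MvPowerSeries.coeff_map,
    MvPowerSeries.coeff_map] at this
  exact this

/-- **Limits of compatible expansions.** -/
theorem exists_limit (h : ∀ n, C →ₐ[R] MvPowerSeries κ (A ⧸ I ^ n))
    (hc : ∀ m n (hmn : m ≤ n), (MvPowerSeries.mapAlgHom
      (Ideal.Quotient.factorₐ R (Ideal.pow_le_pow_right hmn))).comp (h n) = h m) :
    ∃ v : C →ₐ[R] MvPowerSeries κ A,
      ∀ n, (MvPowerSeries.mapAlgHom (Ideal.Quotient.mkₐ R (I ^ n))).comp v = h n := by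
  have h1 : ∀ c : C, ∃ f : MvPowerSeries κ A, ∀ n,
      MvPowerSeries.mapAlgHom (Ideal.Quotient.mkₐ R (I ^ n)) f = h n c := by
    intro c
    have h2 : ∀ d : κ →₀ ℕ, ∃ x : A, ∀ n, Ideal.Quotient.mk (I ^ n) x = MvPowerSeries.coeff d (h n c) := by
      intro d
      refine exists_of_compat I _ (fun m n hmn => ?_)
      rw [← hc m n hmn, AlgHom.comp_apply, MvPowerSeries.mapAlgHom_apply, MvPowerSeries.coeff_map]
      rfl
    choose f hf using h2
    refine ⟨f, fun n => ?_⟩
    ext d
    rw [MvPowerSeries.mapAlgHom_apply, MvPowerSeries.coeff_map]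
    exact hf d n
  choose v hv using h1
  refine ⟨{ toFun := v
            map_one' := mapAlgHom_ext (R := R) I (fun n => by rw [hv, map_one, map_one])
            map_mul' := fun a b => mapAlgHom_ext (R := R) I (fun n => by rw [hv, map_mul, map_mul, hv, hv])
            map_zero' := mapAlgHom_ext (R := R) I (fun n => by rw [hv, map_zero, map_zero])
            map_add' := fun a b => mapAlgHom_ext (R := R) I (fun n => by rw [hv, map_add, map_add, hv, hv])
            commutes' := fun r => mapAlgHom_ext (R := R) I (fun n => by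
              rw [hv, AlgHom.commutes, AlgHom.commutes]) }, fun n => ?_⟩
  ext1 c
  exact hv c n

end limit

section rational

variable {X : Type u} [CommRing X] {κ : Type} [Fintype κ]

/-- `f` becomes a polynomial after multiplication by a power of `∏ (1 + x)`. -/
def Qp (f : MvPowerSeries κ X) : Prop :=
  ∃ (N : ℕ) (p : MvPolynomial κ X), f * (∏ k, (1 + MvPowerSeries.X k)) ^ N = p

lemma coe_prod_one_add : ((∏ k, (1 + MvPolynomial.X k) : MvPolynomial κ X) : MvPowerSeries κ X) =
    ∏ k, (1 + MvPowerSeries.X k) := by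
  change MvPolynomial.coeToMvPowerSeries.ringHom _ = _
  rw [map_prod]
  simp

lemma Qp.exists_le {f : MvPowerSeries κ X} (h : Qp f) :
    ∃ N : ℕ, ∀ M, N ≤ M → ∃ p : MvPolynomial κ X, f * (∏ k, (1 + MvPowerSeries.X k)) ^ M = p := by
  obtain ⟨N, p, hp⟩ := h
  refine ⟨N, fun M hM => ⟨p * (∏ k, (1 + MvPolynomial.X k)) ^ (M - N), ?_⟩⟩
  rw [MvPolynomial.coe_mul, MvPolynomial.coe_pow, coe_prod_one_add, ← hp, _root_.mul_assoc, ← pow_add,
    Nat.add_sub_cancel' hM]

lemma Qp.add {f g : MvPowerSeries κ X} (hf : Qp f) (hg : Qp g) : Qp (f + g) := by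
  obtain ⟨N, hN⟩ := hf.exists_le
  obtain ⟨M, hM⟩ := hg.exists_le
  obtain ⟨p, hp⟩ := hN (max N M) (le_max_left _ _)
  obtain ⟨q, hq⟩ := hM (max N M) (le_max_right _ _)
  refine ⟨max N M, p + q, ?_⟩
  rw [add_mul, hp, hq, MvPolynomial.coe_add]

lemma Qp.mul {f g : MvPowerSeries κ X} (hf : Qp f) (hg : Qp g) : Qp (f * g) := by
  obtain ⟨N, p, hp⟩ := hf
  obtain ⟨M, q, hq⟩ := hg
  refine ⟨N + M, p * q, ?_⟩
  rw [MvPolynomial.coe_mul, ← hp, ← hq, pow_add]
  ring

lemma Qp.coe (p : MvPolynomial κ X) : Qp (p : MvPowerSeries κ X) := ⟨0, p, by simp⟩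

lemma Qp.one : Qp (1 : MvPowerSeries κ X) := by simpa using Qp.coe (1 : MvPolynomial κ X)

lemma Qp.pow {f : MvPowerSeries κ X} (hf : Qp f) (n : ℕ) : Qp (f ^ n) := by
  induction n with
  | zero => rw [pow_zero]; exact Qp.one
  | succ n ih => rw [pow_succ]; exact ih.mul hf

lemma Qp.prod {α : Type*} (S : Finset α) (f : α → MvPowerSeries κ X) (hf : ∀ a ∈ S, Qp (f a)) :
    Qp (∏ a ∈ S, f a) := by
  classical
  induction S using Finset.induction_on with
  | empty => rw [Finset.prod_empty]; exact Qp.one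
  | insert a S ha ih =>
    rw [Finset.prod_insert ha]
    exact (hf a (Finset.mem_insert_self _ _)).mul (ih (fun b hb => hf b (Finset.mem_insert_of_mem hb)))

lemma Qp.of_uP (k : κ) : Qp (uP X k : MvPowerSeries κ X) := by
  have := Qp.coe (X := X) (κ := κ) (1 + MvPolynomial.X k)
  simpa [uP_val] using this

lemma Qp.of_uP_inv (k : κ) : Qp (((uP X k)⁻¹ : (MvPowerSeries κ X)ˣ) : MvPowerSeries κ X) := by
  classical
  refine ⟨1, ∏ i ∈ Finset.univ.erase k, (1 + MvPolynomial.X i), ?_⟩
  have h1 : ((∏ i ∈ Finset.univ.erase k, (1 + MvPolynomial.X i) : MvPolynomial κ X) : MvPowerSeries κ X) =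
      ∏ i ∈ Finset.univ.erase k, (1 + MvPowerSeries.X i) := by
    change MvPolynomial.coeToMvPowerSeries.ringHom _ = _
    rw [map_prod]
    simp
  rw [h1, pow_one, ← Finset.mul_prod_erase Finset.univ _ (Finset.mem_univ k), ← uP_val, ← _root_.mul_assoc,
    Units.inv_mul, _root_.one_mul]

lemma Qp.zpow (k : κ) (n : ℤ) : Qp (((uP X k) ^ n : (MvPowerSeries κ X)ˣ) : MvPowerSeries κ X) := by
  obtain ⟨m, rfl | rfl⟩ := n.eq_nat_or_neg
  · rw [zpow_natCast, Units.val_pow_eq_pow_val]
    exact (Qp.of_uP k).pow m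
  · rw [zpow_neg, zpow_natCast, ← inv_pow, Units.val_pow_eq_pow_val]
    exact (Qp.of_uP_inv k).pow m

lemma Qp.of_chr (γ : Γm κ) : Qp (Pts.chr (uP X) γ : MvPowerSeries κ X) := by
  rw [chr_apply, Units.coe_prod]
  exact Qp.prod _ _ (fun k _ => Qp.zpow k _)

variable {R : Type u} [CommRing R] [Algebra R X]

lemma Qp.of_evT (z : DD R κ ⊗[R] X) : Qp (Pts.evT (cP R X κ) (uP X) z) := by
  induction z using TensorProduct.induction_on with
  | zero => rw [map_zero]; simpa using Qp.coe (0 : MvPolynomial κ X)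
  | add a b ha hb => rw [map_add]; exact ha.add hb
  | tmul d x =>
    induction d using MonoidAlgebra.induction_linear with
    | zero => rw [TensorProduct.zero_tmul, map_zero]; simpa using Qp.coe (0 : MvPolynomial κ X)
    | add a b ha hb => rw [TensorProduct.add_tmul, map_add]; exact ha.add hb
    | single γ r =>
      have h1 : (MonoidAlgebra.single γ r : DD R κ) ⊗ₜ[R] x = MonoidAlgebra.single γ 1 ⊗ₜ[R] (r • x) := by
        rw [← TensorProduct.smul_tmul]
        simp
      rw [h1, evT_single_tmul]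
      refine (Qp.of_chr γ).mul ?_
      have := Qp.coe (X := X) (κ := κ) (MvPolynomial.C (r • x))
      rw [MvPolynomial.coe_C] at this
      exact this

variable {G : Over (Spec (CommRingCat.of R))} [GrpObj G]
  {C : Type u} [CommRing C] [Algebra R C] (j : pt R C ⟶ G) [IsOpenImmersion j.left]
  (hj : Set.range η[G].left ⊆ Set.range j.left)

include hj in
/-- The expansion of a homomorphism is rational. -/
theorem expand_rational [IsLocalRing X] {F : pt R (DD R κ ⊗[R] X) ⟶ G} (hF : IsHomPt F)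
    {h : C →ₐ[R] MvPowerSeries κ X} (e : xp F = ptMap h ≫ j) (c : C) :
    ∃ b a : MvPolynomial κ X, b ≠ 0 ∧ (b : MvPowerSeries κ X) * h c = a := by
  let e₁ : DD R κ ⊗[R] X →ₐ[R] X := Pts.evT (AlgHom.id R X) 1
  let eP : DD R κ ⊗[R] X →ₐ[R] MvPowerSeries κ X := Pts.evT (cP R X κ) (uP X)
  have he : (c0 R X κ).comp eP = e₁ := by
    rw [comp_evT, c0_comp_cP]
    simp only [c0_uP]
    rfl
  let V : (Spec (CommRingCat.of (DD R κ ⊗[R] X))).Opens := F.left ⁻¹ᵁ j.left.opensRange
  let z₀ : Spec (CommRingCat.of (DD R κ ⊗[R] X)) := (ptMap e₁).left (IsLocalRing.closedPoint X)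
  have hz₀ : z₀ ∈ V := by
    change F.left ((ptMap e₁).left (IsLocalRing.closedPoint X)) ∈ Set.range j.left
    rw [← Scheme.Hom.comp_apply, ← Over.comp_left]
    have : ptMap e₁ ≫ F = 1 := pv_one hF _
    rw [this]
    exact hj (one_left_mem _)
  obtain ⟨_, ⟨_, ⟨g, rfl⟩, rfl⟩, hg, hgV⟩ := PrimeSpectrum.isBasis_basic_opens.exists_subset_of_mem_open
    hz₀ V.2
  -- `e₁ g` is a unit
  have hg1 : IsUnit (e₁ g) := by
    by_contra hn
    apply hg
    change e₁ g ∈ IsLocalRing.maximalIdeal X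
    exact hn
  have hg2 : IsUnit (eP g) := by
    rw [MvPowerSeries.isUnit_iff_constantCoeff]
    have := AlgHom.congr_fun he g
    rw [AlgHom.comp_apply, c0_apply] at this
    rw [this]
    exact hg1
  let L := Localization.Away g
  let cg : DD R κ ⊗[R] X →ₐ[R] L := IsScalarTower.toAlgHom R _ L
  have hrange : Set.range (ptMap cg ≫ F).left ⊆ Set.range j.left := by
    rintro _ ⟨z, rfl⟩
    apply hgV
    have h1 : Set.range (Spec.map (CommRingCat.ofHom (algebraMap (DD R κ ⊗[R] X) L))) =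
        (PrimeSpectrum.basicOpen g : Set (PrimeSpectrum (DD R κ ⊗[R] X))) :=
      PrimeSpectrum.localization_away_comap_range L g
    change (ptMap cg).left z ∈ (PrimeSpectrum.basicOpen g : Set (PrimeSpectrum (DD R κ ⊗[R] X)))
    rw [← h1]
    exact ⟨z, rfl⟩
  obtain ⟨h', hh'⟩ := exists_lift_chart j (ptMap cg ≫ F) hrange
  let eL : L →ₐ[R] MvPowerSeries κ X := IsLocalization.liftAlgHom (M := Submonoid.powers g) (f := eP) (by
    rintro ⟨_, n, rfl⟩
    change IsUnit (eP (g ^ n))
    rw [map_pow]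
    exact hg2.pow n)
  have heL : ∀ z, eL (algebraMap _ L z) = eP z := by
    intro z
    change IsLocalization.lift _ _ = _
    rw [IsLocalization.lift_eq]
    rfl
  have hcomp : eL.comp cg = eP := AlgHom.ext fun z => heL z
  have hh : h = eL.comp h' := by
    apply chart_inj j
    rw [← e, ← ptMap_comp, Category.assoc, ← hh', ← Category.assoc, ptMap_comp, hcomp]
    rfl
  obtain ⟨z, ⟨_, n, rfl⟩, hz⟩ := IsLocalization.exists_mk'_eq (Submonoid.powers g) (h' c)
  have h2 : h c * eP (g ^ n) = eP z := by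
    rw [hh, AlgHom.comp_apply, ← heL, ← map_mul, ← hz, IsLocalization.mk'_spec, heL]
  obtain ⟨N, hN⟩ := (Qp.of_evT (R := R) (g ^ n : DD R κ ⊗[R] X)).exists_le
  obtain ⟨M, hM⟩ := (Qp.of_evT (R := R) (z : DD R κ ⊗[R] X)).exists_le
  obtain ⟨b, hb⟩ := hN (max N M) (le_max_left _ _)
  obtain ⟨a, ha⟩ := hM (max N M) (le_max_right _ _)
  refine ⟨b, a, ?_, ?_⟩
  · rintro rfl
    have h3 : IsUnit (eP (g ^ n) * (∏ k : κ, (1 + MvPowerSeries.X k)) ^ (max N M)) := by
      refine IsUnit.mul ?_ (IsUnit.pow _ ?_)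
      · rw [map_pow]
        exact hg2.pow n
      · exact IsUnit.prod_univ_iff.mpr (fun k => (uP X k).isUnit)
    rw [hb] at h3
    simp at h3
  · rw [← hb, ← ha, ← h2]
    ring

end rational

end Groth.Agent.Sga3.H818.Expand
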