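import Groth.Agent.Sga3.H818.Univ
import Groth.Agent.Sga3C.QuotProps
import Mathlib.RingTheory.Flat.FaithfullyFlat.Algebra
import Mathlib.RingTheory.Flat.Localization

/-!
# Extension of a formal homomorphism which is rational near the unit section

`A` is an `R`-algebra, Hausdorff for the `I`-adic topology, `F n : T ⟶ G` homomorphisms over `A / I ^ n`, and
`w` is a morphism to `G` from the open part `W = {s ≠ 0}` of the torus `T_A`, `s(1) = 1`, which agrees with the `F n`.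
Then there is a homomorphism `F : T_A ⟶ G` inducing the `F n`: `exists_extend`.
-/

set_option autoImplicit false
universe u
open CategoryTheory MonoidalCategory CartesianMonoidalCategory MonObj AlgebraicGeometry Limits
open scoped TensorProduct

namespace Groth.Agent.Sga3.H818.Extend
open Groth.Agent.Sga3B.InfConj Groth.Agent.Sga3.H802.HaarPts Groth.Agent.Sga3.H802.HaarHom
open Groth.Agent.Sga3B.HaarDef hiding exists_conj_abstract exists_hom_abstract
open Groth.Agent.Sga3.H818.PS Groth.Agent.Sga3.H818.Pts Groth.Agent.Sga3.H818.Univ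

local notation "cst" => Groth.Agent.Sga3B.HaarDef.«ι»

section alg

variable {R : Type u} [CommRing R] {A E E' : Type u} [CommRing A] [CommRing E] [CommRing E']
  [Algebra R A] [Algebra R E] [Algebra R E'] {κ : Type}

/-- The coordinates `t - 1` of a point of the torus. -/
def crd (t : κ → Eˣ) : κ → E := fun k => (t k : E) - 1

lemma map_crd (h : E →ₐ[R] E') (t : κ → Eˣ) :
    (fun k => h (crd t k)) = crd (fun k => Units.map (h : E →* E') (t k)) := by
  funext k
  simp [crd]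

variable (s : MvPolynomial κ A)

/-- `s(t)` is invertible. -/
def Ok (φ : A →ₐ[R] E) (t : κ → Eˣ) : Prop := IsUnit (evM φ (crd t) s)

variable {s}

lemma Ok.map {φ : A →ₐ[R] E} {t : κ → Eˣ} (h : Ok s φ t) (g : E →ₐ[R] E') :
    Ok s (g.comp φ) (fun k => Units.map (g : E →* E') (t k)) := by
  unfold Ok at *
  rw [← map_crd, ← map_evM]
  exact IsUnit.map g h

/-- the polynomial `s(y) s(t y) ∏ (1 + y)` -/
noncomputable def genS [Fintype κ] (s : MvPolynomial κ A) (φ : A →ₐ[R] E) (t : κ → Eˣ) : MvPolynomial κ E :=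
  evM ((cM R E κ).comp φ) (fun k => MvPolynomial.X k) s *
    evM ((cM R E κ).comp φ) (fun k => MvPolynomial.C (t k : E) * (1 + MvPolynomial.X k) - 1) s *
      ∏ k, (1 + MvPolynomial.X k)

variable [Fintype κ]

lemma evM_genS (φ : A →ₐ[R] E) (t : κ → Eˣ) (ψ : E →ₐ[R] E') (e : κ → E') :
    evM ψ e (genS s φ t) = evM (ψ.comp φ) e s * evM (ψ.comp φ) (fun k => ψ (t k) * (1 + e k) - 1) s *
      ∏ k, (1 + e k) := by
  unfold genS
  rw [map_mul, map_mul, map_evM, map_evM, map_prod]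
  have h1 : (evM ψ e).comp ((cM R E κ).comp φ) = ψ.comp φ := by
    rw [← AlgHom.comp_assoc, evM_comp_C]
  rw [h1]
  simp

lemma genS_unit (φ : A →ₐ[R] E) (t : κ → Eˣ) (ψ : E →ₐ[R] E') (τ : κ → E'ˣ) :
    IsUnit (evM ψ (crd τ) (genS s φ t)) ↔
      Ok s (ψ.comp φ) τ ∧ Ok s (ψ.comp φ) ((fun k => Units.map (ψ : E →* E') (t k)) * τ) := by
  rw [evM_genS, IsUnit.mul_iff, IsUnit.mul_iff]
  have h1 : IsUnit (∏ k, (1 + crd τ k)) := by
    refine IsUnit.prod_univ_iff.mpr fun k => ?_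
    rw [crd, add_sub_cancel]
    exact (τ k).isUnit
  have h2 : (fun k => ψ (t k) * (1 + crd τ k) - 1) =
      crd ((fun k => Units.map (ψ : E →* E') (t k)) * τ) := by
    funext k
    simp [crd]
  rw [h2]
  unfold Ok
  tauto

/-- The generic point of the torus. -/
noncomputable def genTau (s : MvPolynomial κ A) (φ : A →ₐ[R] E) (t : κ → Eˣ) (k : κ) :
    (Localization.Away (genS s φ t))ˣ :=
  IsUnit.unit (a := 1 + xL (genS s φ t) k) (by
    have h := isUnit_evM_cL_xL (R := R) (genS s φ t)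
    rw [evM_genS] at h
    have h1 := isUnit_of_mul_isUnit_right h
    exact IsUnit.prod_univ_iff.mp h1 k)

lemma crd_genTau (φ : A →ₐ[R] E) (t : κ → Eˣ) : crd (genTau s φ t) = xL (genS s φ t) := by
  funext k
  change 1 + xL (genS s φ t) k - 1 = _
  ring

lemma ok_genTau (φ : A →ₐ[R] E) (t : κ → Eˣ) :
    Ok s ((cL R (genS s φ t)).comp φ) (genTau s φ t) ∧
    Ok s ((cL R (genS s φ t)).comp φ)
      ((fun k => Units.map (cL R (genS s φ t) : E →* _) (t k)) * genTau s φ t) := by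
  rw [← genS_unit, crd_genTau]
  exact isUnit_evM_cL_xL _

omit [Fintype κ] in
lemma constantCoeff_ne_zero (hs : MvPolynomial.constantCoeff s = 1) {L : Type u} [Field L] [Algebra R L]
    (φ : A →ₐ[R] L) : evM φ (fun _ => 0) s = 1 := by
  have h1 : evM φ (fun _ : κ => (0 : L)) s = φ (MvPolynomial.constantCoeff s) := by
    rw [constantCoeff_eq_evM (R := R), map_evM]
    congr 2
    funext k
    simp
  rw [h1, hs, map_one]

/-- Over a field extension there is a generic point. -/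
lemma exists_field (hs : MvPolynomial.constantCoeff s = 1) {K : Type u} [Field K] [Algebra R K]
    (φ : A →ₐ[R] K) (t : κ → Kˣ) :
    ∃ (L : Type u) (_ : Field L) (_ : Algebra R L) (ψ : K →ₐ[R] L) (e : κ → L),
      evM ψ e (genS s φ t) ≠ 0 := by
  let P := MvPolynomial κ K
  let L := FractionRing P
  let ψ : K →ₐ[R] L := (IsScalarTower.toAlgHom R P L).comp (cM R K κ)
  refine ⟨L, inferInstance, inferInstance, ψ, fun k => algebraMap P L (MvPolynomial.X k), ?_⟩
  have h1 : evM ψ (fun k => algebraMap P L (MvPolynomial.X k)) (genS s φ t) =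
      algebraMap P L (genS s φ t) := by
    have h2 := map_evM (IsScalarTower.toAlgHom R P L) (cM R K κ) (fun k => MvPolynomial.X k) (genS s φ t)
    have h3 : evM (cM R K κ) (fun k => MvPolynomial.X k) = AlgHom.id R (MvPolynomial κ K) :=
      hom_ext (fun x => by rw [evM_C]; rfl) (fun i => by rw [evM_X]; rfl)
    rw [h3] at h2
    exact h2.symm
  rw [h1, Ne, map_eq_zero_iff _ (IsFractionRing.injective P L)]
  unfold genS
  have e1 : evM ((cM R K κ).comp φ) (fun k => MvPolynomial.X k) s ≠ 0 := by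
    intro h
    have h4 := congrArg (evM (AlgHom.id R K) (fun _ => 0)) h
    rw [map_evM, map_zero, ← AlgHom.comp_assoc, evM_comp_C] at h4
    simp only [evM_X] at h4
    rw [constantCoeff_ne_zero hs] at h4
    exact one_ne_zero h4
  have e2 : evM ((cM R K κ).comp φ)
      (fun k => MvPolynomial.C (t k : K) * (1 + MvPolynomial.X k) - 1) s ≠ 0 := by
    intro h
    have h4 := congrArg (evM (AlgHom.id R K) (fun k => ((t k)⁻¹ : Kˣ) - 1)) h
    rw [map_evM, map_zero, ← AlgHom.comp_assoc, evM_comp_C] at h4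
    have h5 : (fun k => (evM (AlgHom.id R K) (fun k => (((t k)⁻¹ : Kˣ) : K) - 1))
        (MvPolynomial.C (t k : K) * (1 + MvPolynomial.X k) - 1)) = fun _ => 0 := by
      funext k
      simp
    rw [h5, constantCoeff_ne_zero hs] at h4
    exact one_ne_zero h4
  have e3 : (∏ k : κ, (1 + MvPolynomial.X k : MvPolynomial κ K)) ≠ 0 := by
    rw [Finset.prod_ne_zero_iff]
    intro k _ h
    have h4 := congrArg (evM (AlgHom.id R K) (fun _ => 0)) h
    simp at h4
  exact mul_ne_zero (mul_ne_zero e1 e2) e3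

/-- The localisation at `s(y) s(t y) ∏ (1 + y)` is faithfully flat. -/
lemma faithfullyFlat (hs : MvPolynomial.constantCoeff s = 1) (φ : A →ₐ[R] E) (t : κ → Eˣ) :
    Module.FaithfullyFlat E (Localization.Away (genS s φ t)) := by
  apply Module.FaithfullyFlat.of_comap_surjective
  intro p
  let K := p.asIdeal.ResidueField
  let π : E →ₐ[R] K := IsScalarTower.toAlgHom R E K
  obtain ⟨L, _, _, ψ, e, he⟩ := exists_field hs (π.comp φ) (fun k => Units.map (π : E →* K) (t k))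
  have h1 : evM (ψ.comp π) e (genS s φ t) ≠ 0 := by
    rw [evM_genS] at he ⊢
    exact he
  let f : Localization.Away (genS s φ t) →ₐ[R] L := evL (ψ.comp π) e _ (IsUnit.mk0 _ h1)
  refine ⟨⟨RingHom.ker f, RingHom.ker_isPrime _⟩, ?_⟩
  ext x
  change f (algebraMap E (Localization.Away (genS s φ t)) x) = 0 ↔ _
  have h2 : f (algebraMap E (Localization.Away (genS s φ t)) x) = ψ (π x) := by
    have h3 : algebraMap E (Localization.Away (genS s φ t)) x = cL R (genS s φ t) x := rfl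
    rw [h3]
    exact evL_cL _ _ _ _ _
  rw [h2, map_eq_zero]
  exact p.asIdeal.algebraMap_residueField_eq_zero

end alg

section descent

variable {R : Type u} [CommRing R]

/-- Morphisms from `Spec E` are determined by algebra maps. -/
lemma exists_eq_ptMap {B E : Type u} [CommRing B] [CommRing E] [Algebra R B] [Algebra R E]
    (x : pt R E ⟶ pt R B) : ∃ f : B →ₐ[R] E, x = ptMap f := by
  let g := (Spec.preimage x.left).hom
  have h1 : Spec.map (CommRingCat.ofHom g) = x.left := Spec.map_preimage x.left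
  have h2 : g.comp (algebraMap R B) = algebraMap R E := by
    have h3 := Over.w x
    change x.left ≫ Spec.map (CommRingCat.ofHom (algebraMap R B)) = Spec.map (CommRingCat.ofHom (algebraMap R E)) at h3
    rw [← h1, ← Spec.map_comp, ← CommRingCat.ofHom_comp] at h3
    have h4 := Spec.map_injective h3
    exact congrArg CommRingCat.Hom.hom h4
  refine ⟨{ g with commutes' := fun r => congrArg (fun k : R →+* E => k r) h2 }, ?_⟩
  ext1
  exact h1.symm

lemma ptMap_injective' {B E : Type u} [CommRing B] [CommRing E] [Algebra R B] [Algebra R E]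
    {f g : B →ₐ[R] E} (h : ptMap f = ptMap g) : f = g := by
  have h1 := congrArg (fun z => Over.Hom.left z) h
  have h2 := Spec.map_injective h1
  have h3 := congrArg CommRingCat.Hom.hom h2
  exact AlgHom.ext fun x => congrArg (fun k : B →+* E => k x) h3

/-- Every morphism to an affine scheme factors through the spectrum of the global functions. -/
lemma exists_factor (T : Over (Spec (CommRingCat.of R))) :
    ∃ (E : Type u) (_ : CommRing E) (_ : Algebra R E) (a : T ⟶ pt R E),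
      ∀ (B : Type u) [CommRing B] [Algebra R B] (x : T ⟶ pt R B), ∃! f : B →ₐ[R] E, x = a ≫ ptMap f := by
  let α : R →+* Γ(T.left, ⊤) := ((Scheme.ΓSpecIso (.of R)).inv ≫ T.hom.appTop).hom
  let _ : Algebra R Γ(T.left, ⊤) := α.toAlgebra
  let a : T ⟶ pt R Γ(T.left, ⊤) := Over.homMk T.left.toSpecΓ (toSpecΓ_SpecMap_eq _)
  refine ⟨Γ(T.left, ⊤), inferInstance, inferInstance, a, fun B _ _ x => ?_⟩
  have key : ∀ x' : T.left ⟶ Spec (.of B), ∃! φ : CommRingCat.of B ⟶ Γ(T.left, ⊤),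
      x' = T.left.toSpecΓ ≫ Spec.map φ := by
    intro x'
    refine ⟨(Scheme.ΓSpecIso (.of B)).inv ≫ x'.appTop, (toSpecΓ_SpecMap_eq x').symm, ?_⟩
    intro φ hφ
    rw [hφ, ΓSpecIso_inv_comp_appTop]
  obtain ⟨φ, hφ, hu⟩ := key x.left
  have h2 : φ.hom.comp (algebraMap R B) = algebraMap R _ := by
    have h3 := Over.w x
    change x.left ≫ Spec.map (CommRingCat.ofHom (algebraMap R B)) = T.hom at h3
    rw [hφ, Category.assoc, ← Spec.map_comp] at h3
    have h4 : (Scheme.ΓSpecIso (.of R)).inv ≫ T.hom.appTop = CommRingCat.ofHom (algebraMap R B) ≫ φ := by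
      rw [← h3, ΓSpecIso_inv_comp_appTop]
    exact (congrArg CommRingCat.Hom.hom h4).symm
  let f : B →ₐ[R] Γ(T.left, ⊤) := { φ.hom with commutes' := fun r => congrArg (fun k => k r) h2 }
  refine ⟨f, ?_, ?_⟩
  · ext1
    exact hφ
  · intro g hg
    have h5 : x.left = T.left.toSpecΓ ≫ Spec.map (CommRingCat.ofHom g.toRingHom) := by
      rw [hg]
      rfl
    have h6 := hu _ h5
    exact AlgHom.ext fun b => congrArg (fun k : CommRingCat.of B ⟶ Γ(T.left, ⊤) => k.hom b) h6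

/-- fpqc descent of points of `G`. -/
theorem exists_desc_pt {G : Over (Spec (CommRingCat.of R))} {B₀ B : Type u} [CommRing B₀] [CommRing B] [Algebra R B₀]
    [Algebra R B] (c : B₀ →ₐ[R] B) (hc : (c : B₀ →+* B).FaithfullyFlat) (q : pt R B ⟶ G)
    (H : ∀ (E : Type u) [CommRing E] [Algebra R E] (f g : B →ₐ[R] E), f.comp c = g.comp c →
      ptMap f ≫ q = ptMap g ≫ q) : ∃ F : pt R B₀ ⟶ G, ptMap c ≫ F = q := by
  let p := ptMap c
  have hp := (flat_and_surjective_SpecMap_iff (CommRingCat.ofHom (c : B₀ →+* B))).mpr hc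
  have : Flat p.left := hp.1
  have : Surjective p.left := hp.2
  have : QuasiCompact p.left := inferInstanceAs (QuasiCompact (Spec.map (CommRingCat.ofHom c.toRingHom)))
  have hf' : ∀ {W : Scheme.{u}} (g₁ g₂ : W ⟶ (pt R B).left), g₁ ≫ p.left = g₂ ≫ p.left →
      g₁ ≫ q.left = g₂ ≫ q.left := by
    intro W g₁ g₂ h
    have h2 : g₂ ≫ (pt R B).hom = g₁ ≫ (pt R B).hom := by
      rw [← Over.w p, ← Category.assoc, ← Category.assoc, h]
    let T : Over (Spec (CommRingCat.of R)) := Over.mk (g₁ ≫ (pt R B).hom)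
    let x₁ : T ⟶ pt R B := Over.homMk g₁ rfl
    let x₂ : T ⟶ pt R B := Over.homMk g₂ h2
    have hx : x₁ ≫ p = x₂ ≫ p := by ext1; exact h
    obtain ⟨E, _, _, a, ha⟩ := exists_factor T
    obtain ⟨f₁, hf₁, -⟩ := ha B x₁
    obtain ⟨f₂, hf₂, -⟩ := ha B x₂
    have h3 : f₁.comp c = f₂.comp c := by
      obtain ⟨f₃, -, hf₃⟩ := ha B₀ (x₁ ≫ p)
      have e1 := hf₃ (f₁.comp c) (by
        dsimp only
        rw [← ptMap_comp, hf₁, Category.assoc])
      have e2 := hf₃ (f₂.comp c) (by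
        dsimp only
        rw [hx, ← ptMap_comp, hf₂, Category.assoc])
      rw [e1, e2]
    have h4 := H E f₁ f₂ h3
    have h5 : x₁ ≫ q = x₂ ≫ q := by
      rw [hf₁, hf₂, Category.assoc, Category.assoc, h4]
    exact congrArg (fun z => Over.Hom.left z) h5
  have hep : Epi p.left := Flat.epi_of_flat_of_surjective _
  have hfac := EffectiveEpi.fac p.left q.left hf'
  refine ⟨Over.homMk (EffectiveEpi.desc p.left q.left hf') ?_, ?_⟩
  · rw [← cancel_epi p.left, ← Category.assoc, hfac, Over.w, Over.w]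
  · ext1
    exact hfac

end descent

section geom

variable {R : Type u} [CommRing R] {G : Over (Spec (CommRingCat.of R))} [GrpObj G]
  {A E E' : Type u} [CommRing A] [CommRing E] [CommRing E']
  [Algebra R A] [Algebra R E] [Algebra R E'] {κ : Type} [Fintype κ] {s : MvPolynomial κ A}

open Classical in
/-- The value of `w : W ⟶ G` at `t`, `W = {s ≠ 0} ⊆ T_A`. -/
noncomputable def wv (w : pt R (Localization.Away s) ⟶ G) (φ : A →ₐ[R] E) (t : κ → Eˣ) : pt R E ⟶ G :=
  if h : Ok s φ t then ptMap (evL φ (crd t) s h) ≫ w else 1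

omit [Fintype κ] in
lemma wv_of (w : pt R (Localization.Away s) ⟶ G) {φ : A →ₐ[R] E} {t : κ → Eˣ} (h : Ok s φ t) :
    wv w φ t = ptMap (evL φ (crd t) s h) ≫ w := dif_pos h

omit [Fintype κ] in
lemma ptMap_wv (w : pt R (Localization.Away s) ⟶ G) {φ : A →ₐ[R] E} {t : κ → Eˣ} (h : Ok s φ t)
    (g : E →ₐ[R] E') :
    ptMap g ≫ wv w φ t = wv w (g.comp φ) (fun k => Units.map (g : E →* E') (t k)) := by
  rw [wv_of w h, wv_of w (h.map g), ← Category.assoc, ptMap_comp]
  congr 2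
  have h' : IsUnit (evM (g.comp φ) (fun k => g (crd t k)) s) := by
    rw [map_crd]
    exact h.map g
  rw [comp_evL g φ (crd t) s h h']
  have h2 := map_crd g t
  congr 1

/-- The difference `w(t τ) w(τ)⁻¹`. -/
noncomputable def qv (w : pt R (Localization.Away s) ⟶ G) (φ : A →ₐ[R] E) (t τ : κ → Eˣ) : pt R E ⟶ G :=
  wv w φ (t * τ) * (wv w φ τ)⁻¹

omit [Fintype κ] in
lemma map_mul_units (g : E →ₐ[R] E') (t τ : κ → Eˣ) :
    (fun k => Units.map (g : E →* E') ((t * τ) k)) =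
      (fun k => Units.map (g : E →* E') (t k)) * (fun k => Units.map (g : E →* E') (τ k)) := by
  funext k
  simp

omit [Fintype κ] in
lemma ptMap_qv (w : pt R (Localization.Away s) ⟶ G) {φ : A →ₐ[R] E} {t τ : κ → Eˣ} (h : Ok s φ τ)
    (h' : Ok s φ (t * τ)) (g : E →ₐ[R] E') :
    ptMap g ≫ qv w φ t τ = qv w (g.comp φ) (fun k => Units.map (g : E →* E') (t k))
      (fun k => Units.map (g : E →* E') (τ k)) := by
  unfold qv
  rw [MonObj.comp_mul, GrpObj.comp_inv, ptMap_wv w h g, ptMap_wv w h' g, map_mul_units]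

variable (I : Ideal A) (hI : ∀ x, (∀ n : ℕ, x ∈ I ^ n) → x = 0)

include hI in
omit [GrpObj G] [Fintype κ] in
/-- An identity between points with values in a subring of `A[[x]]` may be checked modulo powers of `I`. -/
lemma eq_of_mod [IsSeparated G.hom] {U : Type u} [CommRing U] [Algebra R U] (φ : A →ₐ[R] U)
    (hU : ∃ Ψ : U →ₐ[R] MvPowerSeries κ A, Function.Injective Ψ ∧ Ψ.comp φ = cP R A κ)
    {x y : pt R U ⟶ G}
    (H : ∀ (n : ℕ) (E : Type u) [CommRing E] [Algebra R E] (ψ : A ⧸ I ^ n →ₐ[R] E) (h : U →ₐ[R] E),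
      h.comp φ = ψ.comp (Ideal.Quotient.mkₐ R (I ^ n)) → ptMap h ≫ x = ptMap h ≫ y) : x = y := by
  obtain ⟨Ψ, hΨ, hΨφ⟩ := hU
  refine pt_eq_of_forall (fun n : ℕ => (I ^ n).map φ) (fun z hz => eq_zero_of_forall_mem I hI φ Ψ hΨ hΨφ z hz)
    (fun n => ?_)
  let ψ : A ⧸ I ^ n →ₐ[R] U ⧸ (I ^ n).map φ := Ideal.Quotient.liftₐ (I ^ n)
    ((Ideal.Quotient.mkₐ R ((I ^ n).map φ)).comp φ) (fun a ha => by
      exact Ideal.Quotient.eq_zero_iff_mem.mpr (Ideal.mem_map_of_mem _ ha))
  refine H n _ ψ _ ?_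
  ext a
  rfl

variable (F : ∀ n : ℕ, pt R (DD R κ ⊗[R] (A ⧸ I ^ n)) ⟶ G) (hF : ∀ n, IsHomPt (F n))
  (hs : MvPolynomial.constantCoeff s = 1) (w : pt R (Localization.Away s) ⟶ G)
  (hw : ∀ (n : ℕ) (E : Type u) [CommRing E] [Algebra R E] (ψ : A ⧸ I ^ n →ₐ[R] E) (t : κ → Eˣ),
    Ok s (ψ.comp (Ideal.Quotient.mkₐ R (I ^ n))) t →
      wv w (ψ.comp (Ideal.Quotient.mkₐ R (I ^ n))) t = pv (F n) ψ t)

include hF hw in
lemma qv_mod (n : ℕ) (ψ : A ⧸ I ^ n →ₐ[R] E) {t τ : κ → Eˣ}
    (h : Ok s (ψ.comp (Ideal.Quotient.mkₐ R (I ^ n))) τ)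
    (h' : Ok s (ψ.comp (Ideal.Quotient.mkₐ R (I ^ n))) (t * τ)) :
    qv w (ψ.comp (Ideal.Quotient.mkₐ R (I ^ n))) t τ = pv (F n) ψ t := by
  unfold qv
  rw [hw n E ψ _ h, hw n E ψ _ h', (isHomPt_iff (F n)).mp (hF n), mul_inv_cancel_right]

include hI hF hs hw in
/-- `w(t τ) w(τ)⁻¹` does not depend on `τ`. -/
lemma qv_eq [IsSeparated G.hom] (φ : A →ₐ[R] E) {t τ τ' : κ → Eˣ} (h1 : Ok s φ τ) (h2 : Ok s φ (t * τ))
    (h3 : Ok s φ τ') (h4 : Ok s φ (t * τ')) : qv w φ t τ = qv w φ t τ' := by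
  -- the universal situation
  let a : κ → MvPolynomial (κ ⊕ κ ⊕ κ) A := fun k => MvPolynomial.X (Sum.inl k)
  let b : κ → MvPolynomial (κ ⊕ κ ⊕ κ) A := fun k => MvPolynomial.X (Sum.inr (Sum.inl k))
  let c : κ → MvPolynomial (κ ⊕ κ ⊕ κ) A := fun k => MvPolynomial.X (Sum.inr (Sum.inr k))
  let C := cM R A (κ ⊕ κ ⊕ κ)
  let σ : MvPolynomial (κ ⊕ κ ⊕ κ) A := evM C b s * evM C (fun k => (1 + a k) * (1 + b k) - 1) s *
    (evM C c s * evM C (fun k => (1 + a k) * (1 + c k) - 1) s)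
  have hσev : ∀ {E : Type u} [CommRing E] [Algebra R E] (ψ : A →ₐ[R] E) (θ : κ ⊕ κ ⊕ κ → Eˣ),
      IsUnit (evM ψ (crd θ) σ) ↔ (Ok s ψ (fun k => θ (Sum.inr (Sum.inl k))) ∧
        Ok s ψ ((fun k => θ (Sum.inl k)) * (fun k => θ (Sum.inr (Sum.inl k))))) ∧
        (Ok s ψ (fun k => θ (Sum.inr (Sum.inr k))) ∧
        Ok s ψ ((fun k => θ (Sum.inl k)) * (fun k => θ (Sum.inr (Sum.inr k))))) := by
    intro E _ _ ψ θ
    rw [map_mul, map_mul, map_mul, map_evM, map_evM, map_evM, map_evM, evM_comp_C,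
      IsUnit.mul_iff, IsUnit.mul_iff, IsUnit.mul_iff]
    have e1 : (fun k => evM ψ (crd θ) (b k)) = crd (fun k => θ (Sum.inr (Sum.inl k))) := by
      funext k; simp [b, crd]
    have e2 : (fun k => evM ψ (crd θ) (c k)) = crd (fun k => θ (Sum.inr (Sum.inr k))) := by
      funext k; simp [c, crd]
    have e3 : (fun k => evM ψ (crd θ) ((1 + a k) * (1 + b k) - 1)) =
        crd ((fun k => θ (Sum.inl k)) * (fun k => θ (Sum.inr (Sum.inl k)))) := by
      funext k; simp [a, b, crd]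
    have e4 : (fun k => evM ψ (crd θ) ((1 + a k) * (1 + c k) - 1)) =
        crd ((fun k => θ (Sum.inl k)) * (fun k => θ (Sum.inr (Sum.inr k)))) := by
      funext k; simp [a, c, crd]
    rw [e1, e2, e3, e4]
    rfl
  have hσ0 : IsUnit (MvPolynomial.constantCoeff σ) := by
    have h5 : ∀ g : κ → MvPolynomial (κ ⊕ κ ⊕ κ) A, (∀ k, MvPolynomial.constantCoeff (g k) = 0) →
        MvPolynomial.constantCoeff (evM C g s) = 1 := by
      intro g hg
      rw [constantCoeff_eq_evM (R := R), map_evM, evM_comp_C]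
      have h6 : (fun k => evM (AlgHom.id R A) (fun _ => (0 : A)) (g k)) = fun _ => 0 := by
        funext k
        rw [← constantCoeff_eq_evM, hg]
      rw [h6, ← constantCoeff_eq_evM, hs]
    rw [map_mul, map_mul, map_mul, h5 _ (fun k => by simp [b]), h5 _ (fun k => by simp [a, b]),
      h5 _ (fun k => by simp [c]), h5 _ (fun k => by simp [a, c])]
    simp
  obtain ⟨U, _, _, φ', T', hT', ⟨Ψ, hΨ, hΨφ, -⟩, huniv⟩ := exists_univ (R := R) σ hσ0
  have hT := (hσev φ' T').mp hT'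
  let θ : κ ⊕ κ ⊕ κ → Eˣ := Sum.elim t (Sum.elim τ τ')
  obtain ⟨g, hg1, hg2⟩ := huniv E φ θ ((hσev φ θ).mpr ⟨⟨h1, h2⟩, ⟨h3, h4⟩⟩)
  have key : qv w φ' (fun k => T' (Sum.inl k)) (fun k => T' (Sum.inr (Sum.inl k))) =
      qv w φ' (fun k => T' (Sum.inl k)) (fun k => T' (Sum.inr (Sum.inr k))) := by
    refine eq_of_mod (κ := κ ⊕ κ ⊕ κ) I hI φ' ⟨Ψ, hΨ, hΨφ⟩ ?_
    intro n E' _ _ ψ h hh
    rw [ptMap_qv w hT.1.1 hT.1.2, ptMap_qv w hT.2.1 hT.2.2]
    have o1 := hT.1.1.map h
    have o2 := hT.1.2.map h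
    have o3 := hT.2.1.map h
    have o4 := hT.2.2.map h
    rw [map_mul_units] at o2 o4
    rw [hh] at o1 o2 o3 o4 ⊢
    rw [qv_mod I F hF w hw n ψ o1 o2, qv_mod I F hF w hw n ψ o3 o4]
  have h5 := congrArg (fun z => ptMap g ≫ z) key
  rw [ptMap_qv w hT.1.1 hT.1.2, ptMap_qv w hT.2.1 hT.2.2, hg1] at h5
  simp only [hg2] at h5
  exact h5

include hI hF hs hw in
/-- **Extension theorem.** -/
theorem exists_extend [IsSeparated G.hom] :
    ∃ F' : pt R (DD R κ ⊗[R] A) ⟶ G, IsHomPt F' ∧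
      ∀ n, ptMap (T (DD R κ) (Ideal.Quotient.mkₐ R (I ^ n))) ≫ F' = F n := by
  -- the universal point of the torus
  obtain ⟨t₀, ht₀⟩ := exists_eq_evT (X := A) (κ := κ) (E := DD R κ ⊗[R] A) (AlgHom.id R (DD R κ ⊗[R] A))
  rw [AlgHom.id_comp] at ht₀
  set φ₀ := cst R (DD R κ) A with hφ₀
  let c := cL R (genS s φ₀ t₀)
  have hff : (c : DD R κ ⊗[R] A →+* Localization.Away (genS s φ₀ t₀)).FaithfullyFlat := by
    have := faithfullyFlat hs φ₀ t₀
    exact (RingHom.faithfullyFlat_algebraMap_iff (R := DD R κ ⊗[R] A)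
      (S := Localization.Away (genS s φ₀ t₀))).mpr this
  have hok := ok_genTau (s := s) φ₀ t₀
  obtain ⟨F', hF'⟩ := exists_desc_pt c hff
    (qv w (c.comp φ₀) (fun k => Units.map (c : DD R κ ⊗[R] A →* Localization.Away (genS s φ₀ t₀)) (t₀ k))
      (genTau s φ₀ t₀)) (by
      intro E _ _ f g hfg
      rw [ptMap_qv w hok.1 hok.2, ptMap_qv w hok.1 hok.2]
      have o1 := hok.1.map f
      have o2 := hok.2.map f
      have o3 := hok.1.map g
      have o4 := hok.2.map g
      rw [map_mul_units] at o2 o4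
      have e1 : (f.comp c).comp φ₀ = (g.comp c).comp φ₀ := by rw [hfg]
      have e2 : (fun k => Units.map (f : _ →* E) (Units.map (c : DD R κ ⊗[R] A →* Localization.Away (genS s φ₀ t₀)) (t₀ k))) =
          (fun k => Units.map (g : _ →* E) (Units.map (c : DD R κ ⊗[R] A →* Localization.Away (genS s φ₀ t₀)) (t₀ k))) := by
        funext k
        ext1
        exact AlgHom.congr_fun hfg _
      change qv w ((f.comp c).comp φ₀) _ _ = qv w ((g.comp c).comp φ₀) _ _
      change Ok s ((g.comp c).comp φ₀) _ at o3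
      change Ok s ((g.comp c).comp φ₀) _ at o4
      rw [← e1, ← e2] at o4 ⊢
      rw [← e1] at o3
      exact qv_eq I hI F hF hs w hw _ o1 o2 o3 o4)
  -- the values of `F'`
  have hval : ∀ {E : Type u} [CommRing E] [Algebra R E] (φ : A →ₐ[R] E) (t τ : κ → Eˣ),
      Ok s φ τ → Ok s φ (t * τ) → pv F' φ t = qv w φ t τ := by
    intro E _ _ φ t τ h1 h2
    have e0 : (evT φ t).comp φ₀ = φ := evT_comp_cst φ t
    have e1 : (fun k => Units.map (evT φ t : _ →* E) (t₀ k)) = t := by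
      have h3 := comp_evT (evT φ t) φ₀ t₀
      rw [← ht₀, AlgHom.comp_id, e0] at h3
      exact (evT_eq_evT h3).symm
    have h5 : IsUnit (evM (evT φ t) (crd τ) (genS s φ₀ t₀)) := by
      rw [genS_unit, e0, e1]
      exact ⟨h1, h2⟩
    have h6 := congrArg (fun z => ptMap (evL (evT φ t) (crd τ) _ h5) ≫ z) hF'
    rw [ptMap_qv w hok.1 hok.2, ← Category.assoc, ptMap_comp, evL_comp_cL] at h6
    have e2 : (evL (evT φ t) (crd τ) _ h5).comp (c.comp φ₀) = φ := by
      rw [← AlgHom.comp_assoc, evL_comp_cL, e0]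
    have e3 : (fun k => Units.map (evL (evT φ t) (crd τ) _ h5 : _ →* E) (Units.map (c : DD R κ ⊗[R] A →* Localization.Away (genS s φ₀ t₀)) (t₀ k))) = t := by
      refine Eq.trans ?_ e1
      funext k
      ext1
      exact evL_cL (R := R) (evT φ t) (crd τ) _ h5 _
    have e4 : (fun k => Units.map (evL (evT φ t) (crd τ) _ h5 : _ →* E) (genTau s φ₀ t₀ k)) = τ := by
      funext k
      ext1
      change evL (evT φ t) (crd τ) _ h5 (1 + xL _ k) = _
      rw [map_add, map_one, evL_xL, crd, add_sub_cancel]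
    rw [e2, e3, e4] at h6
    exact h6
  -- the reductions of `F'`
  have hred : ∀ (n : ℕ) (E : Type u) [CommRing E] [Algebra R E] (ψ : A ⧸ I ^ n →ₐ[R] E) (t : κ → Eˣ),
      pv F' (ψ.comp (Ideal.Quotient.mkₐ R (I ^ n))) t = pv (F n) ψ t := by
    intro n E _ _ ψ t
    set φ := ψ.comp (Ideal.Quotient.mkₐ R (I ^ n)) with hφ
    let c' := cL R (genS s φ t)
    have hinj : Function.Injective c' := by
      have := faithfullyFlat hs φ t
      exact FaithfulSMul.algebraMap_injective E (Localization.Away (genS s φ t))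
    apply ptMap_injective c' hinj
    have hok' := ok_genTau (s := s) φ t
    rw [ptMap_pv, ptMap_pv, hval _ _ _ hok'.1 hok'.2]
    exact qv_mod I F hF w hw n (c'.comp ψ) hok'.1 hok'.2
  refine ⟨F', (isHomPt_iff F').mpr ?_, fun n => pt_ext (fun E _ _ φ t => ?_)⟩
  · intro E _ _ φ t t'
    obtain ⟨U, _, _, φ', T', -, ⟨Ψ, hΨ, hΨφ, -⟩, huniv⟩ := exists_univ (R := R) (X := A) (κ := κ ⊕ κ) 1 (by simp)
    obtain ⟨g, hg1, hg2⟩ := huniv E φ (Sum.elim t t') (by simp)
    have key : pv F' φ' ((fun k => T' (Sum.inl k)) * (fun k => T' (Sum.inr k))) =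
        pv F' φ' (fun k => T' (Sum.inl k)) * pv F' φ' (fun k => T' (Sum.inr k)) := by
      refine eq_of_mod (κ := κ ⊕ κ) I hI φ' ⟨Ψ, hΨ, hΨφ⟩ ?_
      intro n E' _ _ ψ h hh
      rw [MonObj.comp_mul, ptMap_pv, ptMap_pv, ptMap_pv, hh, hred, hred, hred, map_mul_units]
      exact (isHomPt_iff (F n)).mp (hF n) _ _ _ _
    have h5 := congrArg (fun z => ptMap g ≫ z) key
    rw [MonObj.comp_mul, ptMap_pv, ptMap_pv, ptMap_pv, map_mul_units, hg1] at h5
    simp only [hg2] at h5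
    exact h5
  · rw [pv_T, hred]

end geom

end Groth.Agent.Sga3.H818.Extend
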