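import Groth.Agent.Sga3.H818.Main

/-!
# Lifting families of homomorphisms `T ⟶ G` over complete noetherian local rings

* `exists_lift_family` : relative form, `G` over `Spec R`, `A` a complete noetherian local `R`-algebra with residue
  field `k`;
* `exists_lift_complete` : the form over a complete local base.
-/

set_option autoImplicit false
universe u
open CategoryTheory MonoidalCategory CartesianMonoidalCategory MonObj AlgebraicGeometry Limits
open scoped TensorProduct

namespace Groth.Agent.Sga3.H818.Lift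
open Groth.Agent.Sga3B.InfConj Groth.Agent.Sga3B.InfConjFam
open Groth.Agent.Sga3.H802.HaarPts Groth.Agent.Sga3.H802.HaarHom Groth.Agent.Sga3.H802.HomFam
open Groth.Agent.Sga3B.HaarDef hiding exists_conj_abstract exists_hom_abstract
open Groth.Agent.Sga3.H818.Pts Groth.Agent.Sga3.H818.DvrCase Groth.Agent.Sga3.H818.Main
open Groth.Agent.Sga3.H818.FormalPt
open Groth.Agent.Sga3B Groth.Agent.Sga3B.AffDvrGrp789

/-- All field-valued base changes are affine if the fibres are. -/
theorem affFib_of_fibres {X S : Scheme.{u}} (f : X ⟶ S)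
    (h : ∀ s : S, IsAffine (pullback f (S.fromSpecResidueField s))) : AffFib f := by
  intro F _ t
  obtain ⟨s, q, hq⟩ : ∃ (s : S) (q : Spec (CommRingCat.of F) ⟶ Spec (S.residueField s)),
      q ≫ S.fromSpecResidueField s = t := by
    refine ⟨t (IsLocalRing.closedPoint F), Spec.map (Scheme.descResidueField
      (Scheme.stalkClosedPointTo t)), ?_⟩
    exact Scheme.descResidueField_stalkClosedPointTo_fromSpecResidueField F S t
  have h1 : IsPullback (pullback.fst (pullback.snd f (S.fromSpecResidueField s)) q ≫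
      pullback.fst f (S.fromSpecResidueField s)) (pullback.snd (pullback.snd f _) q) f
      (q ≫ S.fromSpecResidueField s) :=
    (IsPullback.of_hasPullback _ q).paste_horiz (IsPullback.of_hasPullback f _)
  rw [hq] at h1
  have := h s
  have h2 : IsAffineHom (pullback.snd f (S.fromSpecResidueField s)) := inferInstance
  have h3 : IsAffine (pullback (pullback.snd f (S.fromSpecResidueField s)) q) :=
    isAffine_of_isAffineHom (pullback.snd (pullback.snd f (S.fromSpecResidueField s)) q)
  exact .of_isIso h1.isoPullback.inv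

variable {R : Type u} [CommRing R] {G : Over (Spec (CommRingCat.of R))} [GrpObj G]

/-- An affine neighbourhood of the unit section with its algebra structure. -/
theorem exists_chart_ft [LocallyOfFiniteType G.hom] (hU : HasAffineUnitNhd G) :
    ∃ (C : Type u) (_ : CommRing C) (_ : Algebra R C) (_ : Algebra.FiniteType R C) (j : pt R C ⟶ G)
      (_ : IsOpenImmersion j.left), Set.range η[G].left ⊆ Set.range j.left := by
  obtain ⟨D, j, hj, hj'⟩ := hU
  let a : CommRingCat.of R ⟶ D := Spec.preimage (j ≫ G.hom)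
  have ha : Spec.map a = j ≫ G.hom := Spec.map_preimage _
  let _ : Algebra R D := a.hom.toAlgebra
  have hft : LocallyOfFiniteType (Spec.map a) := by
    rw [ha]
    infer_instance
  have hft' : Algebra.FiniteType R D := by
    have := (HasRingHomProperty.Spec_iff (P := @LocallyOfFiniteType)).mp hft
    exact this
  exact ⟨D, inferInstance, inferInstance, hft', Over.homMk j ha.symm, hj, hj'⟩

/-- **Lifting of families of homomorphisms.** -/
theorem exists_lift_family [Smooth G.hom] [IsSeparated G.hom] [QuasiCompact G.hom]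
    [GeometricallyIrreducible G.hom] (hG : AffFib G.hom) (hU : HasAffineUnitNhd G) (r : ℕ)
    {A k : Type u} [CommRing A] [Algebra R A] [IsLocalRing A] [IsNoetherianRing A]
    [IsAdicComplete (IsLocalRing.maximalIdeal A) A] [Field k] [Algebra R k] (ρ : A →ₐ[R] k)
    (hρ : Function.Surjective ρ) (y : Red.DS (Spec (CommRingCat.of R)) (Fin r → ℤ) ⊗ pt R k ⟶ G)
    (hy : AutFam.IsHomFamily (Red.DS (Spec (CommRingCat.of R)) (Fin r → ℤ)) G y) :
    ∃ u : Red.DS (Spec (CommRingCat.of R)) (Fin r → ℤ) ⊗ pt R A ⟶ G,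
      AutFam.IsHomFamily (Red.DS (Spec (CommRingCat.of R)) (Fin r → ℤ)) G u ∧
      (Red.DS (Spec (CommRingCat.of R)) (Fin r → ℤ) ◁ ptMap ρ) ≫ u = y := by
  obtain ⟨C, _, _, _, j, _, hj⟩ := exists_chart_ft (G := G) hU
  let e := torIso R (Fin r → ℤ)
  have he : IsModel e := isModel_torIso R (Fin r → ℤ)
  obtain ⟨F, hF, hF'⟩ := exists_lift_hom (r := r) j hj hG ρ hρ (toPt e y) ((isHomPt_toPt_iff e he y).mpr hy)
  refine ⟨famOf e F, (isHomFamily_famOf_iff e he F).mpr hF, toPt_injective e ?_⟩
  rw [toPt_pull, toPt_famOf, hF']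

/-- Over a local ring the unit section has an affine neighbourhood. -/
theorem hasAffineUnitNhd_of_isLocalRing [IsLocalRing R] : HasAffineUnitNhd G := by
  obtain ⟨V, hV, hz, -⟩ := exists_isAffineOpen_mem_and_subset (x := η[G].left (IsLocalRing.closedPoint R)) (U := ⊤)
    (by trivial)
  refine ⟨Γ(G.left, V), hV.fromSpec, inferInstance, ?_⟩
  have h1 : η[G].left ⁻¹ᵁ V = ⊤ := (IsLocalRing.closedPoint_mem_iff (η[G].left ⁻¹ᵁ V)).mp hz
  rintro _ ⟨z, rfl⟩
  have h2 : z ∈ η[G].left ⁻¹ᵁ V := by rw [h1]; trivial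
  rw [hV.range_fromSpec]
  exact h2

/-- The closed point of `Spec R` over `Spec R`. -/
noncomputable def cl (R : Type u) [CommRing R] [IsLocalRing R] :
    Over.mk (Spec.map (CommRingCat.ofHom (IsLocalRing.residue R))) ⟶ Over.mk (𝟙 (Spec (CommRingCat.of R))) :=
  Over.homMk (Spec.map (CommRingCat.ofHom (IsLocalRing.residue R))) (Category.comp_id _)

/-- **Lifting over a complete noetherian local base.** -/
theorem exists_lift_complete {R : Type u} [CommRing R] [IsNoetherianRing R] [IsLocalRing R]
    [IsAdicComplete (IsLocalRing.maximalIdeal R) R] (G : Over (Spec (CommRingCat.of R))) [GrpObj G] [Smooth G.hom]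
    [IsSeparated G.hom] [QuasiCompact G.hom] [GeometricallyIrreducible G.hom]
    (haff : ∀ s, IsAffine (pullback G.hom ((Spec (CommRingCat.of R)).fromSpecResidueField s))) (r : ℕ)
    (y : Red.DS (Spec (CommRingCat.of R)) (Fin r → ℤ) ⊗
      Over.mk (Spec.map (CommRingCat.ofHom (IsLocalRing.residue R))) ⟶ G)
    (hy : AutFam.IsHomFamily (Red.DS (Spec (CommRingCat.of R)) (Fin r → ℤ)) G y) :
    ∃ u : Red.DS (Spec (CommRingCat.of R)) (Fin r → ℤ) ⊗ Over.mk (𝟙 (Spec (CommRingCat.of R))) ⟶ G,
      AutFam.IsHomFamily (Red.DS (Spec (CommRingCat.of R)) (Fin r → ℤ)) G u ∧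
      (Red.DS (Spec (CommRingCat.of R)) (Fin r → ℤ) ◁ cl R) ≫ u = y := by
  let ρ : R →ₐ[R] IsLocalRing.ResidueField R := Algebra.ofId R _
  obtain ⟨u, hu, hu'⟩ := exists_lift_family (affFib_of_fibres G.hom haff) hasAffineUnitNhd_of_isLocalRing r ρ
    IsLocalRing.residue_surjective y hy
  let i : Over.mk (𝟙 (Spec (CommRingCat.of R))) ⟶ pt R R := Over.homMk (𝟙 _) (by
    simp only [Over.mk_hom]
    erw [Category.id_comp]
    exact Spec.map_id _)
  refine ⟨(Red.DS (Spec (CommRingCat.of R)) (Fin r → ℤ) ◁ i) ≫ u, IsoFam.isHomFamily_pull hu i, ?_⟩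
  rw [← Category.assoc, ← MonoidalCategory.whiskerLeft_comp]
  have h1 : cl R ≫ i = ptMap ρ := by
    ext1
    exact Category.comp_id _
  rw [h1]
  exact hu'

end Groth.Agent.Sga3.H818.Lift
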