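import Groth.Agent.Sga3.H818.DvrCase
import Groth.Agent.Sga3.H818.CDvr
import Groth.Agent.Ega2.CompleteFinite

/-!
# Lifting homomorphisms `T ⟶ G` over complete noetherian local rings

`G` is a smooth quasi-compact group with affine connected fibres, `A` a complete noetherian local ring, `T` a split
torus. Every homomorphism `T_k ⟶ G_k` over the residue field lifts to `T_A ⟶ G_A`.

* `isAlg_of_isReduced` : formal homomorphisms are algebraic if `A` is reduced;
* `exists_formal` : existence of formal liftings;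
* `exists_lift_pt`, `exists_lift_family`.
-/

set_option autoImplicit false
universe u
open CategoryTheory MonoidalCategory CartesianMonoidalCategory MonObj AlgebraicGeometry Limits
open scoped TensorProduct

namespace Groth.Agent.Sga3.H818.Main
open Groth.Agent.Sga3B.InfConj Groth.Agent.Sga3.H802.HaarPts Groth.Agent.Sga3.H802.HaarHom
open Groth.Agent.Sga3.H802.HomFam Groth.Agent.Sga3.H802.DSFam
open Groth.Agent.Sga3B.HaarDef hiding exists_conj_abstract exists_hom_abstract
open Groth.Agent.Sga3.H818.Pts Groth.Agent.Sga3.H818.Effect Groth.Agent.Sga3.H818.DvrCase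
open Groth.Agent.Sga3B Groth.Agent.Sga3B.AffDvrGrp789

variable {R : Type u} [CommRing R] {G : Over (Spec (CommRingCat.of R))} [GrpObj G] {r : ℕ}

section formal

variable {κ : Type} [Fintype κ] {C : Type u} [CommRing C] [Algebra R C] (j : pt R C ⟶ G) [IsOpenImmersion j.left]
  (hj : Set.range η[G].left ⊆ Set.range j.left)

include hj in
omit [Fintype κ] in
/-- Lifting along surjections with nilpotent kernel. -/
theorem exists_lift_nil [Smooth G.hom] [IsSeparated G.hom] {X Y : Type u} [CommRing X] [CommRing Y] [Algebra R X]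
    [Algebra R Y] (π : X →ₐ[R] Y) (hπ : Function.Surjective π) (hK : IsNilpotent (RingHom.ker π))
    (F : pt R (DD R κ ⊗[R] Y) ⟶ G) (hF : IsHomPt F) :
    ∃ F' : pt R (DD R κ ⊗[R] X) ⟶ G, IsHomPt F' ∧ ptMap (T (DD R κ) π) ≫ F' = F :=
  exists_lift_of_nilpotent (CommRingCat.of C) j.left hj (haarMonoidAlgebra (Γm κ)) hπ hK hF

variable {A : Type u} [CommRing A] [Algebra R A] (I : Ideal A)

/-- Homomorphisms over `A / I ^ (n + 1)`. -/
abbrev Hn (G : Over (Spec (CommRingCat.of R))) [GrpObj G] (κ : Type) [Fintype κ] {A : Type u} [CommRing A]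
    [Algebra R A] (I : Ideal A) (n : ℕ) : Type u :=
  { F : pt R (DD R κ ⊗[R] (A ⧸ I ^ (n + 1))) ⟶ G // IsHomPt F }

include hj in
theorem exists_step [Smooth G.hom] [IsSeparated G.hom] (n : ℕ) (F : Hn G κ I n) : ∃ F' : Hn G κ I (n + 1),
    ptMap (T (DD R κ) (Ideal.Quotient.factorₐ R (Ideal.pow_le_pow_right (I := I) (Nat.le_succ (n + 1))))) ≫ F'.1 =
      F.1 := by
  obtain ⟨F', h1, h2⟩ := exists_lift_nil j hj
    (Ideal.Quotient.factorₐ R (Ideal.pow_le_pow_right (I := I) (Nat.le_succ (n + 1))))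
    (Ideal.Quotient.factor_surjective (Ideal.pow_le_pow_right (I := I) (Nat.le_succ (n + 1)))) (by
      refine ⟨2, ?_⟩
      have h3 : RingHom.ker (Ideal.Quotient.factorₐ R (Ideal.pow_le_pow_right (I := I) (Nat.le_succ (n + 1)))) =
          (I ^ (n + 1)).map (Ideal.Quotient.mk (I ^ (n + 1 + 1))) := by
        ext x
        obtain ⟨x, rfl⟩ := Ideal.Quotient.mk_surjective x
        rw [RingHom.mem_ker, Ideal.mem_map_iff_of_surjective _ Ideal.Quotient.mk_surjective]
        constructor
        · intro h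
          exact ⟨x, Ideal.Quotient.eq_zero_iff_mem.mp h, rfl⟩
        · rintro ⟨y, hy, hxy⟩
          rw [← hxy]
          exact Ideal.Quotient.eq_zero_iff_mem.mpr hy
      rw [h3, ← Ideal.map_pow, ← pow_mul, Ideal.zero_eq_bot, Ideal.map_eq_bot_iff_le_ker, Ideal.mk_ker]
      exact Ideal.pow_le_pow_right (by omega)) F.1 F.2
  exact ⟨⟨F', h1⟩, h2⟩

include hj in
/-- Existence of formal liftings. -/
theorem exists_formal [Smooth G.hom] [IsSeparated G.hom] {k : Type u} [CommRing k] [Algebra R k] (ρ : A →ₐ[R] k)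
    (hρ : Function.Surjective ρ) (hk : RingHom.ker ρ = I) (F₁ : pt R (DD R κ ⊗[R] k) ⟶ G) (h₁ : IsHomPt F₁) :
    ∃ F : Formal G κ I, ∀ F' : pt R (DD R κ ⊗[R] A) ⟶ G,
      ptMap (T (DD R κ) (Ideal.Quotient.mkₐ R (I ^ 1))) ≫ F' = F.F 1 → ptMap (T (DD R κ) ρ) ≫ F' = F₁ := by
  let ρ₁ : A ⧸ I ^ (0 + 1) →ₐ[R] k := Ideal.Quotient.liftₐ (I ^ (0 + 1)) ρ (fun a ha => by
    rw [zero_add, pow_one, ← hk] at ha
    exact ha)
  have hρ₁ : ρ₁.comp (Ideal.Quotient.mkₐ R (I ^ (0 + 1))) = ρ := by
    ext a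
    rfl
  obtain ⟨F₀, h₀, h₀'⟩ := exists_lift_nil j hj ρ₁ (fun y => by
      obtain ⟨x, rfl⟩ := hρ y
      exact ⟨Ideal.Quotient.mk _ x, rfl⟩) (by
      refine ⟨1, (pow_one _).trans (eq_bot_iff.mpr ?_)⟩
      intro x hx
      obtain ⟨x, rfl⟩ := Ideal.Quotient.mk_surjective x
      have h1 : ρ x = 0 := hx
      have h2 : x ∈ I ^ (0 + 1) := by
        rw [zero_add, pow_one, ← hk]
        exact h1
      rw [Ideal.mem_bot]
      exact Ideal.Quotient.eq_zero_iff_mem.mpr h2) F₁ h₁
  choose step hstep using fun n (F : Hn G κ I n) => exists_step j hj I n F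
  let seq : ∀ n, Hn G κ I n := fun n => Nat.rec ⟨F₀, h₀⟩ (fun n F => step n F) n
  have hseq : ∀ n, ptMap (T (DD R κ) (Ideal.Quotient.factorₐ R
      (Ideal.pow_le_pow_right (I := I) (Nat.le_succ (n + 1))))) ≫ (seq (n + 1)).1 = (seq n).1 :=
    fun n => hstep n (seq n)
  let FF : ∀ n, pt R (DD R κ ⊗[R] (A ⧸ I ^ n)) ⟶ G := fun n =>
    match n with
    | 0 => ptMap (T (DD R κ) (Ideal.Quotient.factorₐ R (Ideal.pow_le_pow_right (I := I) (Nat.zero_le (0 + 1))))) ≫
        (seq 0).1
    | n + 1 => (seq n).1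
  have hFF : ∀ n, IsHomPt (FF n) := by
    intro n
    cases n with
    | zero => exact (seq 0).2.map _
    | succ n => exact (seq n).2
  have hsucc : ∀ n, ptMap (T (DD R κ) (Ideal.Quotient.factorₐ R
      (Ideal.pow_le_pow_right (I := I) (Nat.le_succ n)))) ≫ FF (n + 1) = FF n := by
    intro n
    cases n with
    | zero => rfl
    | succ n => exact hseq n
  have hcomp : ∀ m n (h : m ≤ n),
      ptMap (T (DD R κ) (Ideal.Quotient.factorₐ R (Ideal.pow_le_pow_right (I := I) h))) ≫ FF n = FF m := by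
    intro m n h
    induction n, h using Nat.le_induction with
    | base =>
      have h1 : Ideal.Quotient.factorₐ R (Ideal.pow_le_pow_right (I := I) (le_refl m)) =
          AlgHom.id R (A ⧸ I ^ m) := by
        apply Ideal.Quotient.algHom_ext
        ext a
        rfl
      have h2 : T (DD R κ) (AlgHom.id R (A ⧸ I ^ m)) = AlgHom.id R _ := by
        apply homT_ext
        · intro γ
          simp
        · intro x
          simp
      rw [h1, h2, ptMap_id, Category.id_comp]
    | succ n h ih =>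
      have h1 : Ideal.Quotient.factorₐ R (Ideal.pow_le_pow_right (I := I) (h.trans (Nat.le_succ n))) =
          (Ideal.Quotient.factorₐ R (Ideal.pow_le_pow_right (I := I) h)).comp
            (Ideal.Quotient.factorₐ R (Ideal.pow_le_pow_right (I := I) (Nat.le_succ n))) := by
        apply Ideal.Quotient.algHom_ext
        ext a
        rfl
      rw [h1, ← T_comp, ← ptMap_comp, Category.assoc, hsucc, ih]
  refine ⟨⟨FF, hFF, hcomp⟩, fun F' hF' => ?_⟩
  have h5 : ptMap (T (DD R κ) (Ideal.Quotient.mkₐ R (I ^ (0 + 1)))) ≫ F' = F₀ := hF'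
  rw [← hρ₁, ← T_comp, ← ptMap_comp, Category.assoc, h5, h₀']

end formal

section complete

variable {C : Type u} [CommRing C] [Algebra R C] (j : pt R C ⟶ G) [IsOpenImmersion j.left]
  (hj : Set.range η[G].left ⊆ Set.range j.left)

include hj in
/-- Formal homomorphisms over reduced complete noetherian local rings are algebraic. -/
theorem isAlg_of_isReduced [Smooth G.hom] [IsSeparated G.hom] [QuasiCompact G.hom]
    [GeometricallyIrreducible G.hom] (hG : AffFib G.hom) [Algebra.FiniteType R C]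
    {A : Type u} [CommRing A] [Algebra R A] [IsLocalRing A] [IsNoetherianRing A] [IsReduced A]
    [IsAdicComplete (IsLocalRing.maximalIdeal A) A] (F : Formal G (Fin r) (IsLocalRing.maximalIdeal A)) :
    F.IsAlg := by
  refine exists_algebraize j hj F (fun p hp => ?_)
  have hpp : p.IsPrime := hp.1.1
  obtain ⟨O, _, _, _, hO, τ, hker, hloc⟩ := CDvr.exists_cdvr A p
  let _ : Algebra R O := (τ.comp (algebraMap R A)).toAlgebra
  let τ' : A →ₐ[R] O := { τ with commutes' := fun _ => rfl }
  refine ⟨O, inferInstance, inferInstance, inferInstance, inferInstance, hO, τ', ?_, hker, ?_⟩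
  · have := ((IsLocalRing.local_hom_TFAE τ).out 0 3).mp hloc
    exact this
  · exact isAlg_of_dvr hG _

include hj in
/-- **Lifting of homomorphisms over complete noetherian local rings.** -/
theorem exists_lift_hom [Smooth G.hom] [IsSeparated G.hom] [QuasiCompact G.hom]
    [GeometricallyIrreducible G.hom] (hG : AffFib G.hom) [Algebra.FiniteType R C]
    {A k : Type u} [CommRing A] [Algebra R A] [IsLocalRing A] [IsNoetherianRing A]
    [IsAdicComplete (IsLocalRing.maximalIdeal A) A] [Field k] [Algebra R k] (ρ : A →ₐ[R] k)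
    (hρ : Function.Surjective ρ) (F₁ : pt R (DD R (Fin r) ⊗[R] k) ⟶ G) (h₁ : IsHomPt F₁) :
    ∃ F : pt R (DD R (Fin r) ⊗[R] A) ⟶ G, IsHomPt F ∧ ptMap (T (DD R (Fin r)) ρ) ≫ F = F₁ := by
  let N := nilradical A
  let A' := A ⧸ N
  have hNle : N ≤ IsLocalRing.maximalIdeal A := by
    intro x hx
    rw [mem_nilradical] at hx
    exact fun hu => hx.not_isUnit hu
  have hN1 : Nontrivial A' := Ideal.Quotient.nontrivial_iff.mpr (fun h => by
    rw [h] at hNle
    exact (IsLocalRing.maximalIdeal.isMaximal A).ne_top (top_le_iff.mp hNle))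
  have hloc : IsLocalRing A' := IsLocalRing.of_surjective' _ Ideal.Quotient.mk_surjective
  have hred : IsReduced A' := (Ideal.isRadical_iff_quotient_reduced N).mp (Ideal.radical_isRadical ⊥)
  have hmax : (IsLocalRing.maximalIdeal A).map (algebraMap A A') = IsLocalRing.maximalIdeal A' := by
    have hl : IsLocalHom (Ideal.Quotient.mk N) := IsLocalHom.of_surjective _ Ideal.Quotient.mk_surjective
    ext x
    obtain ⟨x, rfl⟩ := Ideal.Quotient.mk_surjective x
    rw [IsLocalRing.mem_maximalIdeal, map_mem_nonunits_iff]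
    change Ideal.Quotient.mk N x ∈ (IsLocalRing.maximalIdeal A).map (Ideal.Quotient.mk N) ↔ _
    rw [Ideal.mem_map_iff_of_surjective _ Ideal.Quotient.mk_surjective]
    constructor
    · rintro ⟨y, hy, hxy⟩
      have h2 : x - y ∈ N := by
        rw [← Ideal.Quotient.eq_zero_iff_mem, map_sub, hxy, sub_self]
      have h3 : x = (x - y) + y := by ring
      rw [← IsLocalRing.mem_maximalIdeal, h3]
      exact Ideal.add_mem _ (hNle h2) hy
    · intro hx
      exact ⟨x, hx, rfl⟩
  have hcpl : IsAdicComplete (IsLocalRing.maximalIdeal A') A' := by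
    rw [← hmax, IsAdicComplete.map_algebraMap_iff]
    exact Groth.Agent.Ega2.CompleteFinite.isAdicComplete_of_finite
  have hρN : ∀ a ∈ N, ρ a = 0 := fun a ha => by
    rw [mem_nilradical] at ha
    exact (ha.map ρ).eq_zero
  let ρ' : A' →ₐ[R] k := Ideal.Quotient.liftₐ N ρ hρN
  have hρ' : Function.Surjective ρ' := fun y => by
    obtain ⟨x, rfl⟩ := hρ y
    exact ⟨Ideal.Quotient.mk N x, rfl⟩
  have hker : RingHom.ker ρ' = IsLocalRing.maximalIdeal A' := by
    have : (RingHom.ker (ρ' : A' →+* k)).IsMaximal := RingHom.ker_isMaximal_of_surjective (ρ' : A' →+* k) hρ'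
    exact IsLocalRing.eq_maximalIdeal this
  obtain ⟨F, hF⟩ := exists_formal j hj (IsLocalRing.maximalIdeal A') ρ' hρ' hker F₁ h₁
  obtain ⟨F', hF', hF'n⟩ := isAlg_of_isReduced j hj hG F
  have h2 := hF F' (hF'n 1)
  obtain ⟨F'', h3, h4⟩ := exists_lift_nil j hj (Ideal.Quotient.mkₐ R N) (Ideal.Quotient.mkₐ_surjective R N) (by
    have : RingHom.ker (Ideal.Quotient.mkₐ R N) = N := Ideal.mk_ker
    rw [this]
    exact IsNoetherianRing.isNilpotent_nilradical A) F' hF'
  refine ⟨F'', h3, ?_⟩
  have h5 : ρ = ρ'.comp (Ideal.Quotient.mkₐ R N) := by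
    ext a
    rfl
  rw [h5, ← T_comp, ← ptMap_comp, Category.assoc, h4, h2]

end complete

end Groth.Agent.Sga3.H818.Main
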