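import Groth.Agent.Sga3.H818.Alg
import Mathlib.RingTheory.Localization.Away.Basic
import Mathlib.RingTheory.Localization.Algebra

/-!
# Localisations of polynomial rings inside power series rings

* `evM φ e : MvPolynomial ι X →ₐ[R] E`: evaluation at `e : ι → E` over `φ : X →ₐ[R] E`.
* `evL φ e σ h : Localization.Away σ →ₐ[R] E`.
* `toPS σ h : Localization.Away σ →ₐ[X] MvPowerSeries ι X`, injective (`toPS_injective`), for `σ` with a unit as
  constant coefficient.
* `iInf_map_pow_eq_bot`: the `I`-adic topology of `Localization.Away σ` is Hausdorff if that of `X` is.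
-/

set_option autoImplicit false

namespace Groth.Agent.Sga3.H818.PS

open MvPowerSeries nonZeroDivisors

universe u

section ev

variable {R X E E' : Type*} [CommRing R] [CommRing X] [CommRing E] [CommRing E'] [Algebra R X] [Algebra R E]
  [Algebra R E'] {ι κ : Type*}

/-- Evaluation of polynomials over `X` at `e : ι → E`, over `φ : X →ₐ[R] E`. -/
noncomputable def evM (φ : X →ₐ[R] E) (e : ι → E) : MvPolynomial ι X →ₐ[R] E where
  toRingHom := MvPolynomial.eval₂Hom (φ : X →+* E) e
  commutes' r := by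
    change MvPolynomial.eval₂ (φ : X →+* E) e (algebraMap R (MvPolynomial ι X) r) = _
    rw [IsScalarTower.algebraMap_apply R X (MvPolynomial ι X), MvPolynomial.algebraMap_eq, MvPolynomial.eval₂_C]
    exact φ.commutes r

@[simp] lemma evM_C (φ : X →ₐ[R] E) (e : ι → E) (x : X) : evM φ e (MvPolynomial.C x) = φ x :=
  MvPolynomial.eval₂_C _ _ _

@[simp] lemma evM_X (φ : X →ₐ[R] E) (e : ι → E) (i : ι) : evM φ e (MvPolynomial.X i) = e i :=
  MvPolynomial.eval₂_X _ _ _

lemma evM_comp_C (φ : X →ₐ[R] E) (e : ι → E) :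
    (evM φ e).comp (IsScalarTower.toAlgHom R X (MvPolynomial ι X)) = φ := by
  ext x
  exact evM_C φ e x

lemma hom_ext {f g : MvPolynomial ι X →ₐ[R] E} (h : ∀ x, f (MvPolynomial.C x) = g (MvPolynomial.C x))
    (h' : ∀ i, f (MvPolynomial.X i) = g (MvPolynomial.X i)) : f = g := by
  have : (f : MvPolynomial ι X →+* E) = g := MvPolynomial.ringHom_ext h h'
  exact AlgHom.ext fun x => congrArg (fun k : MvPolynomial ι X →+* E => k x) this

lemma comp_evM (h : E →ₐ[R] E') (φ : X →ₐ[R] E) (e : ι → E) :
    h.comp (evM φ e) = evM (h.comp φ) (fun i => h (e i)) :=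
  hom_ext (fun x => by simp) (fun i => by simp)

lemma map_evM (h : E →ₐ[R] E') (φ : X →ₐ[R] E) (e : ι → E) (p : MvPolynomial ι X) :
    h (evM φ e p) = evM (h.comp φ) (fun i => h (e i)) p :=
  AlgHom.congr_fun (comp_evM h φ e) p

/-- The constants, as an algebra map. -/
noncomputable abbrev cM (R X : Type*) [CommRing R] [CommRing X] [Algebra R X] (ι : Type*) :
    X →ₐ[R] MvPolynomial ι X := IsScalarTower.toAlgHom R X (MvPolynomial ι X)

lemma constantCoeff_eq_evM (p : MvPolynomial ι X) :
    MvPolynomial.constantCoeff p = evM (AlgHom.id R X) (fun _ => 0) p := by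
  have h : (MvPolynomial.constantCoeff : MvPolynomial ι X →+* X) =
      (evM (AlgHom.id R X) (fun _ : ι => (0 : X)) : MvPolynomial ι X →+* X) :=
    MvPolynomial.ringHom_ext (fun x => by simp) (fun i => by simp)
  exact congrArg (fun k : MvPolynomial ι X →+* X => k p) h

/-- Evaluation on a localisation of a polynomial ring. -/
noncomputable def evL (φ : X →ₐ[R] E) (e : ι → E) (σ : MvPolynomial ι X) (h : IsUnit (evM φ e σ)) :
    Localization.Away σ →ₐ[R] E :=
  IsLocalization.liftAlgHom (M := Submonoid.powers σ) (f := evM φ e) (by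
    rintro ⟨_, n, rfl⟩
    change IsUnit (evM φ e (σ ^ n))
    rw [map_pow]
    exact h.pow n)

@[simp] lemma evL_algebraMap (φ : X →ₐ[R] E) (e : ι → E) (σ : MvPolynomial ι X) (h : IsUnit (evM φ e σ))
    (p : MvPolynomial ι X) : evL φ e σ h (algebraMap _ _ p) = evM φ e p := by
  change IsLocalization.lift _ _ = _
  rw [IsLocalization.lift_eq]
  rfl

lemma homL_ext {σ : MvPolynomial ι X} {f g : Localization.Away σ →ₐ[R] E}
    (h : ∀ p : MvPolynomial ι X, f (algebraMap _ _ p) = g (algebraMap _ _ p)) : f = g := by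
  have : (f : Localization.Away σ →+* E) = g :=
    IsLocalization.ringHom_ext (Submonoid.powers σ) (RingHom.ext h)
  exact AlgHom.ext fun x => congrArg (fun k : Localization.Away σ →+* E => k x) this

/-- The constants of a localised polynomial ring. -/
noncomputable def cL (R : Type*) {X : Type*} [CommRing R] [CommRing X] [Algebra R X] {ι : Type*}
    (σ : MvPolynomial ι X) : X →ₐ[R] Localization.Away σ :=
  (IsScalarTower.toAlgHom R (MvPolynomial ι X) (Localization.Away σ)).comp (cM R X ι)

lemma cL_apply (σ : MvPolynomial ι X) (x : X) :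
    cL R σ x = algebraMap (MvPolynomial ι X) (Localization.Away σ) (MvPolynomial.C x) := rfl

/-- The coordinates of a localised polynomial ring. -/
noncomputable def xL {X : Type*} [CommRing X] {ι : Type*} (σ : MvPolynomial ι X) (i : ι) : Localization.Away σ :=
  algebraMap (MvPolynomial ι X) (Localization.Away σ) (MvPolynomial.X i)

@[simp] lemma evL_cL (φ : X →ₐ[R] E) (e : ι → E) (σ : MvPolynomial ι X) (h : IsUnit (evM φ e σ)) (x : X) :
    evL φ e σ h (cL R σ x) = φ x := by
  rw [cL_apply, evL_algebraMap, evM_C]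

lemma evL_comp_cL (φ : X →ₐ[R] E) (e : ι → E) (σ : MvPolynomial ι X) (h : IsUnit (evM φ e σ)) :
    (evL φ e σ h).comp (cL R σ) = φ := by
  ext x
  exact evL_cL φ e σ h x

@[simp] lemma evL_xL (φ : X →ₐ[R] E) (e : ι → E) (σ : MvPolynomial ι X) (h : IsUnit (evM φ e σ)) (i : ι) :
    evL φ e σ h (xL σ i) = e i := by
  rw [xL, evL_algebraMap, evM_X]

lemma evM_cL_xL (σ p : MvPolynomial ι X) : evM (cL R σ) (xL σ) p = algebraMap _ _ p := by
  have : evM (cL R σ) (xL σ) = IsScalarTower.toAlgHom R (MvPolynomial ι X) (Localization.Away σ) :=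
    hom_ext (fun x => by rw [evM_C, cL_apply]; rfl) (fun i => by rw [evM_X]; rfl)
  rw [this]
  rfl

lemma isUnit_evM_cL_xL (σ : MvPolynomial ι X) : IsUnit (evM (cL R σ) (xL σ) σ) := by
  rw [evM_cL_xL]
  exact IsLocalization.map_units (Localization.Away σ) (⟨σ, 1, pow_one σ⟩ : Submonoid.powers σ)

lemma comp_evL (g : E →ₐ[R] E') (φ : X →ₐ[R] E) (e : ι → E) (σ : MvPolynomial ι X) (h : IsUnit (evM φ e σ))
    (h' : IsUnit (evM (g.comp φ) (fun i => g (e i)) σ)) :
    g.comp (evL φ e σ h) = evL (g.comp φ) (fun i => g (e i)) σ h' :=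
  homL_ext (fun p => by simp [map_evM])

/-- Every algebra map out of a localised polynomial ring is an evaluation. -/
lemma eq_evL {σ : MvPolynomial ι X} (f : Localization.Away σ →ₐ[R] E) :
    ∃ h, f = evL (f.comp (cL R σ)) (fun i => f (xL σ i)) σ h := by
  have h : IsUnit (evM (f.comp (cL R σ)) (fun i => f (xL σ i)) σ) := by
    rw [← map_evM]
    exact (isUnit_evM_cL_xL σ).map f
  refine ⟨h, homL_ext (fun p => ?_)⟩
  rw [evL_algebraMap, ← map_evM, evM_cL_xL]

end ev

section ps

variable {X : Type*} [CommRing X] {ι : Type*}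

/-- The polynomial `σ` with unit constant coefficient is a unit in the power series ring. -/
lemma isUnit_coe {σ : MvPolynomial ι X} (h : IsUnit (MvPolynomial.constantCoeff σ)) :
    IsUnit (σ : MvPowerSeries ι X) := by
  rw [MvPowerSeries.isUnit_iff_constantCoeff]
  simpa [← coeff_zero_eq_constantCoeff_apply, MvPolynomial.coeff_coe, MvPolynomial.constantCoeff_eq] using h

/-- The embedding of the localisation in the power series ring. -/
noncomputable def toPS (σ : MvPolynomial ι X) (h : IsUnit (MvPolynomial.constantCoeff σ)) :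
    Localization.Away σ →ₐ[X] MvPowerSeries ι X :=
  IsLocalization.liftAlgHom (M := Submonoid.powers σ) (f := (MvPolynomial.coeToMvPowerSeries.algHom X : MvPolynomial ι X →ₐ[X] MvPowerSeries ι X)) (by
    rintro ⟨_, n, rfl⟩
    change IsUnit (MvPolynomial.coeToMvPowerSeries.algHom X (σ ^ n))
    rw [map_pow]
    refine IsUnit.pow n ?_
    rw [MvPolynomial.coeToMvPowerSeries.algHom_apply]
    simpa using isUnit_coe h)

@[simp] lemma toPS_algebraMap (σ : MvPolynomial ι X) (h : IsUnit (MvPolynomial.constantCoeff σ))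
    (p : MvPolynomial ι X) : toPS σ h (algebraMap _ _ p) = p := by
  change IsLocalization.lift _ _ = _
  rw [IsLocalization.lift_eq]
  change MvPolynomial.coeToMvPowerSeries.algHom X p = _
  rw [MvPolynomial.coeToMvPowerSeries.algHom_apply]
  simp

lemma toPS_injective (σ : MvPolynomial ι X) (h : IsUnit (MvPolynomial.constantCoeff σ)) :
    Function.Injective (toPS σ h) := by
  rw [injective_iff_map_eq_zero]
  intro z hz
  obtain ⟨p, ⟨_, n, rfl⟩, rfl⟩ := IsLocalization.exists_mk'_eq (Submonoid.powers σ) z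
  have h1 := congrArg (fun w => w * toPS σ h (algebraMap _ _ (σ ^ n))) hz
  simp only [← map_mul, zero_mul] at h1
  rw [IsLocalization.mk'_spec] at h1
  rw [toPS_algebraMap, MvPolynomial.coe_eq_zero_iff] at h1
  rw [h1, IsLocalization.mk'_zero]

/-- Coefficients of elements of an extended ideal. -/
lemma coeff_mem_of_mem_map (I : Ideal X) {z : MvPowerSeries ι X}
    (hz : z ∈ I.map (algebraMap X (MvPowerSeries ι X))) (d : ι →₀ ℕ) : coeff d z ∈ I := by
  have h1 : I.map (algebraMap X (MvPowerSeries ι X)) ≤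
      RingHom.ker (MvPowerSeries.map (σ := ι) (Ideal.Quotient.mk I)) := by
    rw [Ideal.map_le_iff_le_comap]
    intro x hx
    rw [Ideal.mem_comap, RingHom.mem_ker]
    change MvPowerSeries.map (Ideal.Quotient.mk I) (MvPowerSeries.C x) = 0
    rw [MvPowerSeries.map_C, Ideal.Quotient.eq_zero_iff_mem.mpr hx, map_zero]
  have h2 := h1 hz
  rw [RingHom.mem_ker] at h2
  rw [← Ideal.Quotient.eq_zero_iff_mem, ← coeff_map, h2, map_zero]

/-- If the `I`-adic topology of `X` is Hausdorff, so is that of `X[x]_σ`, for `σ` with unit constant coefficient. -/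
lemma iInf_map_pow_eq_bot (I : Ideal X) (hI : ∀ x, (∀ n : ℕ, x ∈ I ^ n) → x = 0) (σ : MvPolynomial ι X)
    (h : IsUnit (MvPolynomial.constantCoeff σ)) (z : Localization.Away σ)
    (hz : ∀ n : ℕ, z ∈ (I ^ n).map (algebraMap X (Localization.Away σ))) : z = 0 := by
  apply toPS_injective σ h
  rw [map_zero]
  ext d
  rw [map_zero]
  refine hI _ (fun n => ?_)
  refine coeff_mem_of_mem_map (I ^ n) ?_ d
  have h1 := Ideal.mem_map_of_mem (toPS σ h : Localization.Away σ →+* MvPowerSeries ι X) (hz n)
  rw [Ideal.map_map] at h1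
  have h2 : ((toPS σ h : Localization.Away σ →+* MvPowerSeries ι X).comp
      (algebraMap X (Localization.Away σ))) = algebraMap X (MvPowerSeries ι X) := by
    ext1 x
    exact (toPS σ h).commutes x
  rw [h2] at h1
  exact h1

end ps

end Groth.Agent.Sga3.H818.PS
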