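import Groth.Agent.Sga3.H818.PS
import Groth.Agent.Sga3.H802.HaarHom

/-!
# Evaluation of homomorphisms from split tori to non-affine groups

`D = R[ℤ^κ]`, `T = Spec D`. A morphism `F : pt R (D ⊗[R] X) ⟶ G` is a morphism `T_X ⟶ G`; for an algebra map
`φ : X →ₐ[R] E` and `t : κ → Eˣ` (a point of `T` with values in `E`) `pv F φ t : pt R E ⟶ G` is the value of `F`
at `t`. `F` is a homomorphism iff `pv F φ (t * t') = pv F φ t * pv F φ t'` (`isHomPt_iff`).
-/

set_option autoImplicit false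
universe u
open CategoryTheory MonoidalCategory CartesianMonoidalCategory MonObj AlgebraicGeometry Limits
open scoped TensorProduct

namespace Groth.Agent.Sga3.H818.Pts
open Groth.Agent.Sga3B.InfConj Groth.Agent.Sga3.H802.HaarPts Groth.Agent.Sga3.H802.HaarHom
open Groth.Agent.Sga3B.HaarDef hiding exists_conj_abstract exists_hom_abstract
open Groth.Agent.Sga3.H818.PS

local notation "cst" => Groth.Agent.Sga3B.HaarDef.«ι»

/-- The character group of the torus. -/
abbrev Γm (κ : Type) := Multiplicative (κ → ℤ)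

/-- The coordinate ring of the torus. -/
abbrev DD (R : Type u) [CommRing R] (κ : Type) := MonoidAlgebra R (Γm κ)

section alg

variable {R : Type u} [CommRing R] {X E E' : Type u} [CommRing X] [CommRing E] [CommRing E']
  [Algebra R X] [Algebra R E] [Algebra R E'] {κ : Type} [Fintype κ]

/-- The character of `ℤ^κ` attached to a family of units. -/
def chr (t : κ → Eˣ) : Γm κ →* E where
  toFun γ := ((∏ i, t i ^ (γ.toAdd i) : Eˣ) : E)
  map_one' := by simp
  map_mul' a b := by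
    rw [← Units.val_mul, ← Finset.prod_mul_distrib]
    congr 2
    funext i
    rw [← zpow_add]
    rfl

lemma chr_apply (t : κ → Eˣ) (γ : Γm κ) : chr t γ = ((∏ i, t i ^ (γ.toAdd i) : Eˣ) : E) := rfl

lemma chr_mul (t t' : κ → Eˣ) (γ : Γm κ) : chr (t * t') γ = chr t γ * chr t' γ := by
  rw [chr_apply, chr_apply, chr_apply, ← Units.val_mul, ← Finset.prod_mul_distrib]
  congr 2
  funext i
  rw [Pi.mul_apply, mul_zpow]

lemma map_chr (h : E →ₐ[R] E') (t : κ → Eˣ) (γ : Γm κ) :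
    h (chr t γ) = chr (fun i => Units.map (h : E →* E') (t i)) γ := by
  rw [chr_apply, chr_apply]
  have : (∏ i, Units.map (h : E →* E') (t i) ^ (γ.toAdd i)) =
      Units.map (h : E →* E') (∏ i, t i ^ (γ.toAdd i)) := by
    rw [map_prod]
    simp
  rw [this]
  rfl

variable [DecidableEq κ]

/-- The standard basis. -/
def bas (i : κ) : Γm κ := Multiplicative.ofAdd (Pi.single i 1)

lemma chr_bas (t : κ → Eˣ) (i : κ) : chr t (bas i) = t i := by
  rw [chr_apply]
  congr 1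
  rw [Finset.prod_eq_single i]
  · simp [bas]
  · intro j _ hj
    simp [bas, hj]
  · simp

/-- The units of a monoid homomorphism out of a group. -/
def unitsOf (χ : Γm κ →* E) (i : κ) : Eˣ := χ.toHomUnits (bas i)

lemma chr_unitsOf (χ : Γm κ →* E) : chr (unitsOf χ) = χ := by
  have h1 : ∀ γ : Γm κ, γ = ∏ i, bas i ^ (γ.toAdd i) := by
    intro γ
    apply Multiplicative.toAdd.injective
    funext j
    rw [toAdd_prod, Finset.sum_apply, Finset.sum_eq_single j]
    · simp [bas]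
    · intro i _ hi
      simp [bas, hi.symm]
    · simp
  refine MonoidHom.ext fun γ => ?_
  rw [chr_apply]
  have h2 : (∏ i, unitsOf χ i ^ (γ.toAdd i)) = χ.toHomUnits γ := by
    conv_rhs => rw [h1 γ]
    rw [map_prod]
    refine Finset.prod_congr rfl fun i _ => ?_
    rw [map_zpow]
    rfl
  rw [h2]
  rfl

omit [DecidableEq κ]

/-- Evaluation on the coordinate ring of the torus over `X`. -/
noncomputable def evT (φ : X →ₐ[R] E) (t : κ → Eˣ) : DD R κ ⊗[R] X →ₐ[R] E :=
  Algebra.TensorProduct.lift (MonoidAlgebra.lift R E (Γm κ) (chr t)) φ (fun _ _ => Commute.all _ _)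

@[simp] lemma evT_single_tmul (φ : X →ₐ[R] E) (t : κ → Eˣ) (γ : Γm κ) (x : X) :
    evT φ t (MonoidAlgebra.single γ 1 ⊗ₜ x) = chr t γ * φ x := by
  rw [evT, Algebra.TensorProduct.lift_tmul, MonoidAlgebra.lift_single, one_smul]

lemma evT_cst (φ : X →ₐ[R] E) (t : κ → Eˣ) (x : X) : evT φ t (cst R (DD R κ) X x) = φ x := by
  rw [evT, Groth.Agent.Sga3B.HaarDef.ι_apply, Algebra.TensorProduct.lift_tmul, map_one, _root_.one_mul]

lemma evT_comp_cst (φ : X →ₐ[R] E) (t : κ → Eˣ) : (evT φ t).comp (cst R (DD R κ) X) = φ := by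
  ext x
  exact evT_cst φ t x

omit [Fintype κ] in
lemma homT_ext {f g : DD R κ ⊗[R] X →ₐ[R] E} (h : ∀ γ, f (MonoidAlgebra.single γ 1 ⊗ₜ 1) =
    g (MonoidAlgebra.single γ 1 ⊗ₜ 1)) (h' : ∀ x, f (cst R (DD R κ) X x) = g (cst R (DD R κ) X x)) : f = g := by
  apply Algebra.TensorProduct.ext
  · apply MonoidAlgebra.algHom_ext
    · intro γ
      exact h γ
    · exact Subsingleton.elim _ _
  · apply AlgHom.ext
    intro x
    exact h' x

lemma comp_evT (h : E →ₐ[R] E') (φ : X →ₐ[R] E) (t : κ → Eˣ) :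
    h.comp (evT φ t) = evT (h.comp φ) (fun i => Units.map (h : E →* E') (t i)) := by
  apply homT_ext
  · intro γ
    rw [AlgHom.comp_apply, evT_single_tmul, evT_single_tmul, map_mul, map_chr]
    simp
  · intro x
    rw [AlgHom.comp_apply, evT_cst, evT_cst, AlgHom.comp_apply]

lemma evT_comp_T {Y : Type u} [CommRing Y] [Algebra R Y] (g : Y →ₐ[R] X) (φ : X →ₐ[R] E) (t : κ → Eˣ) :
    (evT φ t).comp (T (DD R κ) g) = evT (φ.comp g) t := by
  apply homT_ext
  · intro γ
    rw [AlgHom.comp_apply, T_tmul, evT_single_tmul, evT_single_tmul]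
    simp
  · intro x
    have : T (DD R κ) g (cst R (DD R κ) Y x) = cst R (DD R κ) X (g x) := AlgHom.congr_fun (T_comp_ι g) x
    rw [AlgHom.comp_apply, this, evT_cst, evT_cst, AlgHom.comp_apply]

/-- Every algebra map out of the coordinate ring of `T_X` is an evaluation. -/
lemma exists_eq_evT (f : DD R κ ⊗[R] X →ₐ[R] E) : ∃ t, f = evT (f.comp (cst R (DD R κ) X)) t := by
  classical
  let χ : Γm κ →* E :=
    (f.comp (Algebra.TensorProduct.includeLeft : DD R κ →ₐ[R] DD R κ ⊗[R] X) : _ →* E).comp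
      (MonoidAlgebra.of R (Γm κ))
  refine ⟨unitsOf χ, ?_⟩
  apply homT_ext
  · intro γ
    rw [evT_single_tmul, chr_unitsOf, map_one, _root_.mul_one]
    rfl
  · intro x
    rw [evT_cst]
    rfl

lemma chr_injective [DecidableEq κ] {t t' : κ → Eˣ} (h : ∀ γ, chr t γ = chr t' γ) : t = t' := by
  funext i
  ext
  rw [← chr_bas, ← chr_bas, h]

lemma evT_eq_evT {φ : X →ₐ[R] E} {t t' : κ → Eˣ} (h : evT φ t = evT φ t') : t = t' := by
  classical
  refine chr_injective (fun γ => ?_)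
  have := AlgHom.congr_fun h (MonoidAlgebra.single γ 1 ⊗ₜ 1)
  simpa using this

/-- Evaluation in two variables. -/
lemma exists_evTT (φ : X →ₐ[R] E) (t t' : κ → Eˣ) :
    ∃ h : DD R κ ⊗[R] (DD R κ ⊗[R] X) →ₐ[R] E, h.comp (T (DD R κ) (cst R (DD R κ) X)) = evT φ t ∧
      h.comp (cst R (DD R κ) (DD R κ ⊗[R] X)) = evT φ t' ∧ h.comp (δ R (DD R κ) X) = evT φ (t * t') := by
  refine ⟨evT (evT φ t') t, ?_, ?_, ?_⟩
  · rw [evT_comp_T, evT_comp_cst]
  · rw [evT_comp_cst]
  · apply homT_ext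
    · intro γ
      rw [AlgHom.comp_apply, δ_tmul, MonoidAlgebra.comul_single]
      simp only [CommSemiring.comul_apply, TensorProduct.map_tmul, MonoidAlgebra.lsingle_apply,
        Algebra.TensorProduct.assoc_tmul, evT_single_tmul, map_one, _root_.mul_one]
      rw [chr_mul]
    · intro x
      have : δ R (DD R κ) X (cst R (DD R κ) X x) = cst R (DD R κ) _ (cst R (DD R κ) X x) :=
        AlgHom.congr_fun δ_comp_ι x
      rw [AlgHom.comp_apply, this, evT_cst, evT_cst, evT_cst]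

lemma exists_evTT' (h : DD R κ ⊗[R] (DD R κ ⊗[R] X) →ₐ[R] E) :
    ∃ (φ : X →ₐ[R] E) (t t' : κ → Eˣ), h.comp (T (DD R κ) (cst R (DD R κ) X)) = evT φ t ∧
      h.comp (cst R (DD R κ) (DD R κ ⊗[R] X)) = evT φ t' ∧ h.comp (δ R (DD R κ) X) = evT φ (t * t') := by
  obtain ⟨t, ht⟩ := exists_eq_evT h
  obtain ⟨t', ht'⟩ := exists_eq_evT (h.comp (cst R (DD R κ) (DD R κ ⊗[R] X)))
  let φ : X →ₐ[R] E := (h.comp (cst R (DD R κ) (DD R κ ⊗[R] X))).comp (cst R (DD R κ) X)
  have h1 : h = evT (evT φ t') t := by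
    rw [← ht']
    exact ht
  refine ⟨φ, t, t', ?_, ?_, ?_⟩
  · rw [h1, evT_comp_T, evT_comp_cst]
  · rw [h1, evT_comp_cst]
  · rw [h1]
    apply homT_ext
    · intro γ
      rw [AlgHom.comp_apply, δ_tmul, MonoidAlgebra.comul_single]
      simp only [CommSemiring.comul_apply, TensorProduct.map_tmul, MonoidAlgebra.lsingle_apply,
        Algebra.TensorProduct.assoc_tmul, evT_single_tmul, map_one, _root_.mul_one]
      rw [chr_mul]
    · intro x
      have : δ R (DD R κ) X (cst R (DD R κ) X x) = cst R (DD R κ) _ (cst R (DD R κ) X x) :=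
        AlgHom.congr_fun δ_comp_ι x
      rw [AlgHom.comp_apply, this, evT_cst, evT_cst, evT_cst]

end alg

section geom

variable {R : Type u} [CommRing R] {G : Over (Spec (CommRingCat.of R))}
variable {X Y E E' : Type u} [CommRing X] [CommRing Y] [CommRing E] [CommRing E']
  [Algebra R X] [Algebra R Y] [Algebra R E] [Algebra R E'] {κ : Type} [Fintype κ]

/-- The value of `F : T_X ⟶ G` at `t`. -/
noncomputable def pv (F : pt R (DD R κ ⊗[R] X) ⟶ G) (φ : X →ₐ[R] E) (t : κ → Eˣ) : pt R E ⟶ G :=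
  ptMap (evT φ t) ≫ F

lemma ptMap_pv (F : pt R (DD R κ ⊗[R] X) ⟶ G) (φ : X →ₐ[R] E) (t : κ → Eˣ) (h : E →ₐ[R] E') :
    ptMap h ≫ pv F φ t = pv F (h.comp φ) (fun i => Units.map (h : E →* E') (t i)) := by
  rw [pv, ← Category.assoc, ptMap_comp, comp_evT, pv]

lemma pv_T (F : pt R (DD R κ ⊗[R] Y) ⟶ G) (g : Y →ₐ[R] X) (φ : X →ₐ[R] E) (t : κ → Eˣ) :
    pv (ptMap (T (DD R κ) g) ≫ F) φ t = pv F (φ.comp g) t := by
  rw [pv, ← Category.assoc, ptMap_comp, evT_comp_T, pv]

lemma pt_ext {F F' : pt R (DD R κ ⊗[R] X) ⟶ G}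
    (h : ∀ (E : Type u) [CommRing E] [Algebra R E] (φ : X →ₐ[R] E) (t : κ → Eˣ), pv F φ t = pv F' φ t) :
    F = F' := by
  obtain ⟨t, ht⟩ := exists_eq_evT (X := X) (κ := κ) (E := DD R κ ⊗[R] X) (AlgHom.id R (DD R κ ⊗[R] X))
  have := h _ ((AlgHom.id R (DD R κ ⊗[R] X)).comp (cst R (DD R κ) X)) t
  rw [pv, pv, ← ht, ptMap_id, Category.id_comp, Category.id_comp] at this
  exact this

variable [GrpObj G]

/-- `F` is a homomorphism iff it is multiplicative on points. -/
lemma isHomPt_iff (F : pt R (DD R κ ⊗[R] X) ⟶ G) : IsHomPt F ↔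
    ∀ (E : Type u) [CommRing E] [Algebra R E] (φ : X →ₐ[R] E) (t t' : κ → Eˣ),
      pv F φ (t * t') = pv F φ t * pv F φ t' := by
  constructor
  · intro hF E _ _ φ t t'
    obtain ⟨h, h1, h2, h3⟩ := exists_evTT φ t t'
    have := congrArg (fun z => ptMap h ≫ z) hF
    simp only [MonObj.comp_mul, ← Category.assoc, ptMap_comp, h1, h2, h3] at this
    exact this.symm
  · intro H
    unfold IsHomPt
    obtain ⟨φ, t, t', h1, h2, h3⟩ := exists_evTT' (X := X) (κ := κ) (E := DD R κ ⊗[R] (DD R κ ⊗[R] X))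
      (AlgHom.id R (DD R κ ⊗[R] (DD R κ ⊗[R] X)))
    have := H _ φ t t'
    rw [AlgHom.id_comp] at h1 h2 h3
    rw [h1, h2, h3]
    exact this.symm

lemma pv_one {F : pt R (DD R κ ⊗[R] X) ⟶ G} (hF : IsHomPt F) (φ : X →ₐ[R] E) :
    pv F φ 1 = (1 : pt R E ⟶ G) := by
  have := (isHomPt_iff F).mp hF E φ 1 1
  rw [_root_.mul_one] at this
  exact (left_eq_mul.mp this)

end geom

end Groth.Agent.Sga3.H818.Pts
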