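import Groth.Agent.Sga3.H818.Pts

/-!
# Universal rings, separation

* `exists_univ`: for `σ : MvPolynomial κ X` with unit constant coefficient, the universal ring for families of units
  `T : κ → Uˣ` with `σ(T - 1)` invertible embeds in `X[[κ]]`.
* `pt_eq_of_forall`: points of a separated scheme with values in `E` which agree modulo ideals `J n` with
  intersection `0` are equal.
-/

set_option autoImplicit false
universe u
open CategoryTheory MonoidalCategory CartesianMonoidalCategory MonObj AlgebraicGeometry Limits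
open scoped TensorProduct

namespace Groth.Agent.Sga3.H818.Univ
open Groth.Agent.Sga3B.InfConj Groth.Agent.Sga3.H802.HaarPts Groth.Agent.Sga3.H802.HaarHom
open Groth.Agent.Sga3.H818.PS Groth.Agent.Sga3.H818.Pts

section alg

variable {R : Type u} [CommRing R] {X : Type u} [CommRing X] [Algebra R X] {κ : Type} [Finite κ]

/-- The constants of the power series ring. -/
noncomputable abbrev cP (R : Type u) [CommRing R] (X : Type u) [CommRing X] [Algebra R X] (κ : Type) :
    X →ₐ[R] MvPowerSeries κ X := IsScalarTower.toAlgHom R X (MvPowerSeries κ X)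

/-- The unit `1 + x` of the power series ring. -/
noncomputable def uP (X : Type u) [CommRing X] {κ : Type} (k : κ) : (MvPowerSeries κ X)ˣ :=
  IsUnit.unit (a := 1 + MvPowerSeries.X k) (by
    rw [MvPowerSeries.isUnit_iff_constantCoeff]
    simp)

omit [Finite κ] in
lemma uP_val (k : κ) : (uP X k : MvPowerSeries κ X) = 1 + MvPowerSeries.X k := rfl

/-- **The universal ring.** -/
theorem exists_univ (σ : MvPolynomial κ X) (hσ : IsUnit (MvPolynomial.constantCoeff σ)) :
    ∃ (U : Type u) (_ : CommRing U) (_ : Algebra R U) (φ : X →ₐ[R] U) (t : κ → Uˣ),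
      IsUnit (evM φ (fun k => (t k : U) - 1) σ) ∧
      (∃ Ψ : U →ₐ[R] MvPowerSeries κ X, Function.Injective Ψ ∧ Ψ.comp φ = cP R X κ ∧
        ∀ k, Units.map (Ψ : U →* _) (t k) = uP X k) ∧
      ∀ (E : Type u) [CommRing E] [Algebra R E] (ψ : X →ₐ[R] E) (τ : κ → Eˣ),
        IsUnit (evM ψ (fun k => (τ k : E) - 1) σ) →
          ∃ h : U →ₐ[R] E, h.comp φ = ψ ∧ ∀ k, Units.map (h : U →* E) (t k) = τ k := by
  classical
  have := Fintype.ofFinite κ
  let σ' : MvPolynomial κ X := σ * ∏ k, (1 + MvPolynomial.X k)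
  have hσ' : IsUnit (MvPolynomial.constantCoeff σ') := by
    rw [map_mul, map_prod]
    simpa using hσ
  have hev : ∀ {E : Type u} [CommRing E] [Algebra R E] (ψ : X →ₐ[R] E) (e : κ → E),
      evM ψ e σ' = evM ψ e σ * ∏ k, (1 + e k) := by
    intro E _ _ ψ e
    rw [map_mul, map_prod]
    simp
  let U := Localization.Away σ'
  have h1 : IsUnit (evM (cL R σ') (xL σ') σ * ∏ k, (1 + xL σ' k)) := by
    rw [← hev]
    exact isUnit_evM_cL_xL σ'
  have h2 : ∀ k, IsUnit (1 + xL σ' k) := fun k =>
    (isUnit_of_mul_isUnit_right h1) |> fun h => by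
      rw [Finset.prod_eq_mul_prod_sdiff_singleton_of_mem (Finset.mem_univ k)] at h
      exact isUnit_of_mul_isUnit_left h
  let t : κ → Uˣ := fun k => (h2 k).unit
  have ht : ∀ k, (t k : U) - 1 = xL σ' k := fun k => by
    change (1 + xL σ' k) - 1 = _
    ring
  refine ⟨U, inferInstance, inferInstance, cL R σ', t, ?_, ⟨(toPS σ' hσ').restrictScalars R,
    toPS_injective σ' hσ', ?_, ?_⟩, ?_⟩
  · simp only [ht]
    exact isUnit_of_mul_isUnit_left h1
  · ext1 x
    exact (toPS σ' hσ').commutes x
  · intro k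
    ext1
    change toPS σ' hσ' (1 + xL σ' k) = _
    rw [map_add, map_one, xL, toPS_algebraMap, uP_val, MvPolynomial.coe_X]
  · intro E _ _ ψ τ hτ
    have h3 : IsUnit (evM ψ (fun k => (τ k : E) - 1) σ') := by
      rw [hev]
      refine hτ.mul (IsUnit.prod_univ_iff.mpr fun k => ?_)
      rw [add_sub_cancel]
      exact (τ k).isUnit
    refine ⟨evL ψ _ σ' h3, evL_comp_cL _ _ _ _, fun k => ?_⟩
    ext1
    change evL ψ _ σ' h3 (1 + xL σ' k) = _
    rw [map_add, map_one, evL_xL, add_sub_cancel]

omit [Finite κ] in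
/-- Hausdorff property of subrings of power series rings. -/
lemma eq_zero_of_forall_mem (I : Ideal X) (hI : ∀ x, (∀ n : ℕ, x ∈ I ^ n) → x = 0) {U : Type u} [CommRing U]
    [Algebra R U] (φ : X →ₐ[R] U) (Ψ : U →ₐ[R] MvPowerSeries κ X) (hΨ : Function.Injective Ψ)
    (hΨφ : Ψ.comp φ = cP R X κ) (z : U) (hz : ∀ n : ℕ, z ∈ (I ^ n).map φ) : z = 0 := by
  apply hΨ
  rw [map_zero]
  ext d
  rw [map_zero]
  refine hI _ (fun n => ?_)
  refine coeff_mem_of_mem_map (I ^ n) ?_ d
  have h1 := Ideal.mem_map_of_mem (Ψ : U →+* MvPowerSeries κ X) (hz n)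
  change _ ∈ ((I ^ n).map (φ : X →+* U)).map (Ψ : U →+* MvPowerSeries κ X) at h1
  rw [Ideal.map_map] at h1
  have h2 : ((Ψ : U →+* MvPowerSeries κ X).comp (φ : X →+* U)) = algebraMap X (MvPowerSeries κ X) := by
    ext1 x
    exact AlgHom.congr_fun hΨφ x
  rw [h2] at h1
  exact h1

end alg

section geom

variable {R : Type u} [CommRing R] {G : Over (Spec (CommRingCat.of R))}

/-- Points of a separated scheme which agree modulo ideals with intersection `0` are equal. -/
theorem pt_eq_of_forall [IsSeparated G.hom] {E : Type u} [CommRing E] [Algebra R E] {α : Type*} (J : α → Ideal E)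
    (hJ : ∀ z, (∀ a, z ∈ J a) → z = 0) {x y : pt R E ⟶ G}
    (h : ∀ a, ptMap (Ideal.Quotient.mkₐ R (J a)) ≫ x = ptMap (Ideal.Quotient.mkₐ R (J a)) ≫ y) : x = y := by
  have h1 : (equalizer.ι x y).left.ker = ⊥ := by
    have h2 : ∀ a, (equalizer.ι x y).left.ker ≤ (ptMap (Ideal.Quotient.mkₐ R (J a))).left.ker := by
      intro a
      have : (ptMap (Ideal.Quotient.mkₐ R (J a))).left =
          (equalizer.lift (ptMap (Ideal.Quotient.mkₐ R (J a))) (h a)).left ≫ (equalizer.ι x y).left := by
        rw [← Over.comp_left, equalizer.lift_ι]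
      rw [this]
      exact Scheme.Hom.le_ker_comp _ _
    have : IsAffine (pt R E).left := inferInstanceAs (IsAffine (Spec (.of E)))
    apply Scheme.IdealSheafData.ext_of_isAffine
    simp only [Scheme.IdealSheafData.ideal_bot, Pi.bot_apply]
    rw [eq_bot_iff]
    intro z hz
    rw [Ideal.mem_bot]
    have h3 : (Scheme.ΓSpecIso (.of E)).hom.hom z = 0 := by
      apply hJ
      intro a
      have h4 := h2 a
      rw [Scheme.IdealSheafData.le_def] at h4
      have h5 := h4 ⟨⊤, isAffineOpen_top _⟩ hz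
      have hqc : QuasiCompact (ptMap (Ideal.Quotient.mkₐ R (J a))).left :=
        inferInstanceAs (QuasiCompact (Spec.map (CommRingCat.ofHom (Ideal.Quotient.mkₐ R (J a)).toRingHom)))
      rw [Scheme.Hom.ker_apply, RingHom.mem_ker] at h5
      change (ptMap (Ideal.Quotient.mkₐ R (J a))).left.appTop.hom z = 0 at h5
      have h6 := Scheme.ΓSpecIso_naturality (CommRingCat.ofHom (Ideal.Quotient.mk (J a)))
      have h7 : (Scheme.ΓSpecIso (.of (E ⧸ J a))).hom.hom ((ptMap (Ideal.Quotient.mkₐ R (J a))).left.appTop.hom z) =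
          Ideal.Quotient.mk (J a) ((Scheme.ΓSpecIso (.of E)).hom.hom z) := congr($h6 z)
      rw [h5, map_zero] at h7
      exact Ideal.Quotient.eq_zero_iff_mem.mp h7.symm
    apply (ConcreteCategory.bijective_of_isIso (Scheme.ΓSpecIso (.of E)).hom).1
    rw [map_zero]
    exact h3
  have := IsClosedImmersion.isIso_iff_ker_eq_bot.mpr h1
  ext1
  rw [← cancel_epi (equalizer.ι x y).left]
  exact congr($(equalizer.condition x y).left)

end geom

end Groth.Agent.Sga3.H818.Univ
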